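import Cfsg.Agent.H39.Fi22Invol.Chain

/-!
Chains.
-/

set_option autoImplicit false
set_option maxRecDepth 100000

namespace Cfsg.Agent.H39.Fi22Invol.Data

/-- the centraliser of the first -/
def chA : List Lvl :=
  [.orbit [1, 0, 2, 1, 3, 2]
    [⟨false, [[1, 0, 2, 1, 3, 2, 7]]⟩, ⟨false, [[1, 0, 2, 3, 4, 5, 7, 3, 2, 4, 8]]⟩, ⟨false, [[1, 2, 3, 4, 5, 6]]⟩, ⟨false, [[1, 0, 2, 1, 3, 4]]⟩, ⟨false, [[1, 0, 2, 1, 3, 2]]⟩]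
    [[], [0, 3, 4, 0], [0, 1, 2, 1, 0, 3, 1, 0, 2, 0, 1], [0, 2, 4, 0], [0, 4], [0, 3], [0, 2, 1, 4, 1, 3, 0, 1, 2, 1, 4], [0, 2], [0], [0, 1, 2, 1, 0, 3, 1, 0, 2, 0, 3, 4], [0, 3, 4], [0, 1, 2, 1, 0, 3, 1, 0, 2, 0], [0, 2, 1, 4, 1, 3, 0, 1, 2, 1], [1, 3, 4], [0, 2, 4], [0, 1, 2, 1, 0, 3, 1, 2, 0, 3], [0, 1, 2, 1, 0, 3, 1, 0, 2, 0, 3], [0, 1, 2, 1, 0, 3, 1, 0, 2, 0, 4], [1, 3], [0, 1, 2, 1, 0, 3, 1, 2, 0, 3, 4], [0, 1, 2, 1, 0, 3, 1, 0, 2, 0, 3, 4, 0], [0, 1, 2, 1, 0, 3, 1, 0, 2], [0, 2, 1, 4, 1, 3, 0, 1, 2, 1, 3, 4], [1, 3, 4, 0], [0, 2, 3], [1, 2, 3, 1, 0, 2, 4, 0, 3], [0, 2, 1, 4, 1, 3, 0, 1, 2, 1, 3], [1, 4], [0, 2, 3, 4], [0, 1, 2, 1, 0, 3, 1, 2, 0],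 [0, 1, 2, 1, 0, 3, 1, 0, 2, 1, 3, 4, 1], [1], [0, 1], [0, 2, 1, 4, 1, 3, 0, 2, 1, 4], [0, 2, 3, 0], [0, 1, 2, 1, 0, 3, 1, 2, 0, 4], [1, 2, 3, 1, 0, 2, 3, 0], [0, 1, 2, 1, 0, 3, 1, 0, 2, 0, 3, 4, 1], [0, 1, 0], [1, 0], [0, 2, 1, 4, 1, 3, 0, 2, 1], [1, 2, 3, 4], [1, 2, 3, 1], [1, 2, 3, 1, 0, 2, 3], [1, 2, 3, 1, 0, 2, 3, 0, 4], [0, 1, 2, 1, 0, 3, 1, 0, 2, 1, 3], [0, 4, 1], [0, 2, 1, 4, 1, 3, 0, 2, 1, 4, 0], [1, 2, 3], [0, 2, 1, 3, 1], [1, 2, 3, 1, 0, 4], [0, 1, 2, 1, 0, 3, 1, 2], [0, 1, 2, 1, 0, 3, 1, 0, 2, 1, 3, 4], [0, 3, 4, 1], [0, 2, 1, 4, 1, 3, 0, 2, 1, 3, 4], [0, 1, 2, 1, 0, 3, 1, 2, 0, 4, 1], [0, 2, 1, 3, 1, 0], [1, 2, 3, 0], [1, 2, 3, 1, 0], [1, 2, 3,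 1, 0, 2, 4, 0], [0, 1, 0, 3], [0, 2, 1, 4, 1, 3, 0, 2, 1, 3], [0, 2, 1, 3, 0, 2, 1, 0, 3, 0, 1], [1, 2, 4], [0, 2, 1, 0, 3, 1, 0, 2, 0, 1], [1, 2, 3, 4, 0], [1, 2, 3, 1, 0, 2], [0, 1, 2, 1, 0, 3, 1, 0, 2, 1], [0, 4, 1, 3], [0, 2, 1, 4, 1, 3, 0, 1, 2], [1, 2], [0, 1, 2, 1, 0, 3, 1, 2, 0, 3, 1], [0, 1, 2, 1], [0, 1, 2, 1, 3, 0, 1, 2, 0, 4, 1], [0, 2, 3, 1], [0, 1, 2, 1, 0, 3, 1], [1, 2, 3, 1, 0, 2, 4], [0, 2, 3, 0, 1, 2, 4, 1], [0, 1, 2, 1, 0, 3, 1, 0, 2, 1, 4], [0, 1, 2, 1, 0], [1, 0, 2, 1, 3, 0, 2, 1, 0, 3], [1, 2, 0], [0, 1, 2, 1, 3], [0, 2, 3, 1, 4], [1, 2, 3, 1, 0, 3], [0, 2, 3, 0, 1, 2, 4, 1, 0, 4], [0, 1, 2, 1, 0, 3, 1, 0], [1, 2, 4, 0], [1, 2, 0, 3,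 1, 2, 0, 1, 3, 1], [1, 0, 2, 1, 3, 0, 2, 1, 0], [1, 2, 0, 3], [0, 2, 3, 0, 1, 2, 3, 1, 4], [0, 1, 2, 1, 3, 0], [0, 2, 3, 4, 1, 3], [0, 2, 3, 0, 1, 2, 4, 1, 0], [1, 3, 4, 0, 2], [0, 2, 1, 3, 1, 0, 3], [1, 2, 0, 3, 1, 2, 0, 3, 1], [0, 2, 1, 3, 0, 2, 1, 3, 0], [0, 2, 3, 1, 0], [0, 2, 3, 0, 1, 2, 3, 1], [0, 1, 0, 2, 3, 1, 0, 2, 3], [0, 2, 1, 3, 1, 0, 2], [0, 1, 2, 1, 0, 3], [1, 2, 3, 1, 0, 2, 4, 0, 1], [0, 2, 3, 4, 1, 2], [0, 2, 1, 3], [1, 0, 2, 1, 3, 0, 2, 1], [0, 1, 2, 0, 3, 1, 2, 0, 1], [0, 1, 2, 0, 3, 1, 0, 2, 3], [0, 1, 2], [0, 2, 1, 3, 0, 2, 1, 3], [0, 2, 1, 3, 0, 2, 1, 0, 3, 0], [1, 2, 4, 0, 3], [1, 2, 3, 1, 0, 2, 4, 0, 1, 4], [0, 2, 3, 0, 1, 3], [0, 1,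 2, 1, 0, 3, 0], [0, 2, 1, 3, 4], [0, 2, 1, 0, 3, 1, 2, 0, 1], [0, 2, 1], [0, 2, 1, 3, 0, 2, 1, 3, 4], [1, 0, 2], [0, 2, 3, 0, 1, 2, 4, 1, 3], [0, 4, 1, 2, 3, 1, 4], [0, 1, 2, 0, 3, 1, 2, 0, 1, 3], [0, 2, 4, 1, 3], [0, 2, 3, 1, 0, 3], [0, 2, 3, 0, 1, 2, 4], [1, 2, 0, 1, 3, 1, 2, 0, 1], [0, 2, 1, 4, 1, 3, 0], [0, 1, 0, 2, 3, 1, 0, 2], [0, 2, 1, 3, 0], [0, 2, 1, 4], [0, 1, 2, 0, 3, 1, 2, 4, 1, 0, 4], [0, 4, 1, 2, 3, 1], [0, 2, 1, 0], [0, 2, 3, 1, 0, 2, 3, 0, 1, 3], [0, 1, 2, 0, 3, 1, 0, 2, 1, 3, 1], [0, 2, 1, 3, 0, 2, 1, 0, 3], [0, 2, 1, 4, 1, 3], [0, 1, 2, 0, 3, 1, 0, 2], [0, 2, 3, 0, 1, 2], [0, 1, 2, 0, 3, 1, 0, 2, 0], [0, 1, 0, 2], [0, 2, 4, 1, 3, 0], [0,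 2, 3, 4, 1], [1, 2, 0, 1, 3, 1], [0, 1, 2, 0], [0, 1, 2, 0, 3, 1, 2, 4, 1, 0], [0, 2, 3, 1, 0, 2, 3, 0, 1], [0, 3, 4, 1, 2], [0, 2, 1, 3, 0, 1, 2, 0, 3], [0, 1, 2, 0, 3, 1, 2, 4, 1, 3], [1, 2, 0, 1, 2], [0, 1, 2, 0, 3, 1, 0, 2, 1, 3, 1, 4], [0, 1, 2, 0, 3, 1, 0, 2, 1, 3], [0, 2, 1, 4, 1], [0, 2, 3, 0, 1, 3, 0], [0, 2, 1, 0, 3, 0, 2], [0, 4, 1, 2], [0, 2, 3, 0, 1], [1, 2, 0, 3, 1, 2, 0, 4], [0, 2, 3, 1, 4, 1], [0, 1, 0, 2, 0, 3, 1], [0, 2, 1, 0, 3, 1, 2, 0, 3], [0, 2, 1, 3, 4, 1, 0, 2, 1], [0, 1, 2, 0, 3, 1, 2, 4, 1], [1, 2, 0, 1, 2, 3], [0, 3, 4, 1, 2, 0, 4], [0, 1, 0, 2, 1], [1, 0, 2, 1, 3, 0, 1, 2, 0, 3], [0, 1, 0, 2, 3, 0, 1, 0], [0, 2, 1, 3, 0, 1, 2,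 1, 4, 0], [0, 2, 1, 3, 0, 1, 2, 0, 3, 1], [0, 2, 4, 1], [1, 2, 0, 3, 1, 2, 0], [0, 2, 1, 4, 1, 3, 0, 2], [1, 2, 0, 3, 1, 2], [0, 2, 1, 0, 2], [0, 2, 3, 0, 1, 4], [0, 1, 0, 2, 0, 3], [0, 2, 1, 4, 1, 3, 0, 1], [0, 2, 3, 4, 1, 0, 4], [0, 2, 3, 1, 4, 1, 0], [0, 2, 1, 3, 0, 1, 0], [0, 2, 1, 3, 0, 2, 1, 3, 4, 1], [0, 2, 1, 0, 2, 3, 1, 2, 0], [0, 1, 0, 2, 1, 3], [0, 1, 2, 0, 3, 1, 0, 2, 3, 1], [0, 3, 4, 1, 2, 0], [1, 2, 0, 3, 1, 0, 2, 0, 3], [0, 2, 1, 3, 0, 2, 1], [0, 1, 2, 0, 1], [1, 2, 0, 3, 1, 2, 0, 1, 3], [1, 0, 2, 1, 3, 0, 1], [0, 2, 1, 3, 0, 1, 2, 1], [1, 2, 0, 1, 3, 0, 2, 1, 3], [0, 1, 0, 2, 0], [0, 2, 3, 0, 1, 2, 3], [0, 2, 3, 1, 0, 2, 3, 0], [0, 1, 0, 2,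 3], [0, 2, 1, 3, 0, 1, 0, 2, 0, 3], [0, 1, 0, 2, 0, 3, 0], [0, 2, 1, 0, 2, 3], [0, 2, 1, 0, 3, 1, 0, 2, 0], [0, 1, 0, 2, 3, 0, 1, 3], [0, 2, 3, 4, 1, 0], [1, 2, 0, 3, 1, 0, 2, 0], [0, 1, 0, 2, 1, 3, 0], [0, 2, 1, 0, 2, 3, 1, 2, 0, 4], [0, 2, 1, 3, 0, 2, 1, 4], [0, 2, 1, 3, 0, 1], [0, 2, 1, 3, 0, 1, 2, 4, 1], [0, 1, 2, 0, 3, 1, 0, 2, 3, 1, 4], [1, 2, 0, 3, 1, 0, 2, 0, 3, 4], [1, 2, 3, 1, 0, 3, 1], [0, 1, 0, 2, 3, 0, 1], [1, 2, 3, 0, 1, 2, 3], [0, 2, 1, 3, 0, 1, 2, 1, 4], [1, 2, 3, 4, 0, 1, 4], [1, 2, 0, 3, 1, 0, 2, 1, 3], [1, 0, 2, 1], [0, 2, 1, 0, 3, 1, 0, 2, 0, 3], [0, 2, 3, 1, 0, 2, 3], [0, 1, 0, 2, 0, 3, 1, 2], [0, 1, 0, 2, 1, 3, 0, 2], [0, 4, 1, 2, 3],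 [0, 2, 1, 0, 3, 0, 1], [1, 2, 0, 1, 3, 0, 2, 1], [0, 2, 1, 3, 0, 1, 2, 1, 3], [0, 2, 3, 0, 1, 0], [0, 1, 0, 2, 3, 1, 4], [0, 2, 1, 3, 0, 1, 0, 2, 0], [1, 0, 2, 1, 3, 0, 1, 3], [0, 2, 1, 3, 4, 1, 2], [0, 2, 1, 0, 3], [0, 1, 2, 1, 3, 0, 2], [1, 2, 0, 3, 1, 0, 2, 0, 4], [0, 2, 1, 0, 3, 0], [0, 2, 1, 3, 0, 1, 4], [0, 2, 1, 3, 0, 2, 1, 0], [1, 2, 0, 3, 1, 0, 2], [0, 2, 1, 3, 0, 1, 2, 1, 4, 1], [1, 2, 4, 0, 3, 1], [0, 1, 2, 1, 3, 0, 1, 2, 0], [0, 1, 0, 2, 3, 0, 1, 2, 3], [0, 2, 1, 3, 0, 1, 2, 3, 1], [1, 0, 2, 1, 3, 0, 1, 2], [0, 3, 4, 1, 2, 0, 1, 4], [0, 2, 1, 3, 4, 1, 2, 3], [1, 2, 3, 4, 0, 1], [1, 2, 0, 1], [0, 1, 2, 1, 0, 3, 0, 2], [0, 1, 2, 0, 3, 1, 0], [0,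 2, 1, 3, 0, 1, 0, 2], [0, 1, 0, 2, 3, 0, 4], [0, 4, 1, 2, 3, 0], [1, 2, 0, 3, 1, 2, 0, 3], [0, 2, 1, 3, 0, 1, 2, 1, 3, 4], [1, 2, 0, 3, 1, 0, 2, 1], [1, 0, 2, 1, 3], [1, 3, 4, 0, 2, 1, 4], [0, 1, 0, 2, 3, 1], [1, 0, 2, 1, 3, 0, 2], [1, 2, 3, 0, 1, 2], [0, 1, 2, 0, 3], [0, 2, 1, 3, 0, 1, 2, 0], [0, 2, 3, 1, 0, 2], [0, 1, 0, 2, 3, 1, 0, 3], [0, 2, 1, 0, 2, 3, 1, 2], [1, 2, 0, 3, 1], [1, 0, 2, 1, 3, 0, 1, 2, 3], [0, 1, 2, 0, 3, 1, 0, 2, 1], [0, 1, 2, 1, 3, 0, 1, 2, 0, 4], [0, 1, 0, 2, 3, 0, 1, 2], [1, 0, 2, 1, 0, 3, 1], [0, 2, 1, 3, 4, 1], [1, 2, 3, 0, 1, 3], [0, 3, 4, 1, 2, 0, 1], [1, 2, 3, 0, 1, 2, 3, 0], [1, 2, 3, 4, 0, 1, 4, 0], [1, 0, 2, 1, 0], [0, 1, 0,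 2, 3, 1, 0], [0, 2, 1, 3, 0, 2], [0, 2, 1, 0, 3, 1, 0, 2], [0, 1, 0, 2, 3, 0], [0, 1, 0, 2, 1, 3, 1], [1, 0, 2, 1, 3, 0, 1, 2, 1], [1, 2, 0, 1, 3, 0, 2, 1, 0], [1, 2, 0, 3, 1, 2, 0, 3, 4], [1, 3, 4, 0, 2, 1], [1, 2, 0, 1, 3], [0, 2, 1, 0, 3, 1], [0, 1, 2, 0, 1, 3, 0, 1], [0, 1, 2, 0, 3, 1], [0, 2, 1, 3, 4, 1, 2, 0], [0, 2, 1, 0, 3, 1, 2, 0], [1, 2, 0, 1, 3, 0, 2], [0, 1, 2, 0, 3, 1, 0, 3], [1, 0, 2, 1, 3, 0, 1, 2, 0], [1, 0, 2, 1, 0, 3, 0, 1], [0, 2, 1, 0, 2, 3, 1], [1, 2, 3, 0, 1], [0, 1, 2, 0, 1, 3, 0, 2], [0, 1, 0, 2, 0, 3, 0, 1, 2], [0, 2, 1, 3, 4, 1, 3], [1, 2, 0, 3, 1, 0, 3], [0, 1, 2, 0, 1, 3, 1, 0], [0, 1, 2, 0, 3, 1, 4], [1, 2, 0, 1, 3, 1, 2], [1,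 2, 3, 0, 1, 0], [0, 2, 1, 0, 3, 0, 2, 1, 0], [0, 1, 2, 0, 3, 1, 2, 0], [0, 1, 2, 1, 3, 0, 1, 2], [0, 1, 2, 1, 3, 0, 1, 3], [0, 2, 1, 0, 3, 1, 0], [1, 2, 0, 1, 3, 0], [0, 2, 4, 1, 3, 0, 1], [0, 2, 1, 3, 0, 1, 2, 4], [0, 2, 1, 0, 3, 1, 2], [1, 2, 0, 3, 1, 0, 2, 3, 0], [0, 2, 1, 3, 4, 1, 0, 3], [1, 2, 0, 3, 1, 2, 0, 1], [0, 1, 2, 1, 0, 3, 0, 1], [0, 1, 2, 0, 1, 3], [0, 2, 3, 4, 1, 0, 4, 1], [0, 2, 3, 1, 0, 2, 3, 1], [1, 2, 0, 3, 1, 0], [0, 1, 0, 2, 1, 3, 1, 0], [0, 2, 1, 3, 0, 1, 2, 3], [0, 1, 2, 0, 1, 3, 1], [0, 2, 1, 3, 4, 1, 3, 0], [1, 0, 2, 1, 0, 3], [0, 1, 2, 1, 3, 0, 1, 2, 3], [0, 2, 1, 3, 4, 1, 0], [0, 2, 1, 0, 3, 0, 2, 1, 4], [0, 1, 2, 0, 3, 1, 2, 4],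 [1, 3, 4, 0, 2, 1, 4, 0], [1, 0, 2, 1, 3, 0], [0, 2, 1, 3, 0, 1, 2], [1, 0, 2, 1, 0, 3, 1, 2], [0, 3, 4, 1, 2, 0, 4, 1], [0, 2, 1, 3, 0, 1, 3], [1, 0, 2, 1, 0, 3, 0, 2], [0, 1, 2, 1, 3, 0, 1], [0, 1, 0, 2, 1, 3, 1, 0, 2], [1, 2, 3, 0, 1, 3, 0], [0, 2, 3, 1, 0, 3, 1], [1, 2, 0, 1, 3, 1, 2, 0], [0, 1, 2, 1, 3, 0, 2, 1], [0, 2, 1, 0, 3, 0, 2, 1], [0, 1, 2, 0, 3, 1, 2], [0, 1, 2, 0, 1, 3, 0], [1, 2, 0, 3, 1, 0, 2, 3], [0, 2, 1, 3, 4, 1, 0, 2], [0, 1, 0, 2, 0, 3, 0, 1], [0, 2, 3, 1, 0, 3, 1, 2], [1, 0, 2, 1, 0, 3, 0], [1, 2, 3, 0, 1, 3, 0, 2], [0, 1, 2, 0, 1, 3, 1, 2]],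
  .orbit [1, 0, 2, 1, 3, 4]
    [⟨false, [[1, 0, 2, 3, 4, 5, 7, 3, 8, 7]]⟩, ⟨false, [[1, 2, 3, 4, 5, 6, 7, 3, 8, 7]]⟩, ⟨false, [[1, 2, 3, 4, 5, 6, 7, 3, 2, 1, 4, 3, 2, 5, 4, 3, 8, 7, 3, 2, 1, 0, 4, 3, 2, 5, 7, 3, 8, 7]]⟩, ⟨false, [[1, 0, 2, 1, 3, 4]]⟩, ⟨false, [[1, 0, 2, 3, 4, 5]]⟩, ⟨false, [[1, 0, 2, 3, 4, 5, 7, 3, 2, 4, 3, 7]]⟩, ⟨false, [[1, 2, 3, 4, 5, 6]]⟩]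
    [[], [1, 3, 4, 1], [0, 3, 6, 0], [0, 1, 4, 5, 1, 6, 2, 5], [1, 2, 4, 6], [0, 3], [1, 3], [1, 3, 5, 1], [0, 1, 4, 5, 1, 3, 6, 0], [0, 1, 4, 5, 1, 6, 2], [0, 2, 5], [2, 5, 6, 2], [0], [0, 1, 2, 3, 4, 1, 5], [1], [1, 4, 5, 1], [1, 2, 6], [0, 3, 6, 2, 5], [1, 3, 4], [1, 2, 4], [0, 3, 6], [1, 3, 4, 5, 2], [0, 1, 5, 6], [1, 4], [1, 3, 5, 2, 6], [0, 1, 4, 5, 1, 3, 6], [1, 3, 5], [0, 1, 4, 5], [2, 5], [0, 6], [0, 1, 4, 5, 6, 2], [0, 1, 4, 5, 1], [1, 4, 5], [0, 2], [0, 1, 2, 3, 4, 1], [0, 3, 6, 2], [2, 3, 5, 6], [1, 2], [0, 1, 2, 4], [0, 1, 5, 6, 2, 3], [0, 1, 4, 5, 1, 6], [1, 5], [2, 6], [2, 3, 5], [0, 1, 4, 5, 6, 2, 3], [0, 1, 4, 6], [2, 3], [0, 1, 2, 3], [0,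 1, 4, 5, 1, 3], [1, 3, 4, 5, 2, 6], [1, 3, 5, 2], [0, 1], [1, 3, 4, 5], [2, 5, 6], [0, 1, 5], [0, 1, 4, 5, 6], [2, 3, 6], [0, 1, 5, 6, 2], [0, 1, 2, 3, 4], [2], [0, 1, 6], [0, 1, 2], [0, 1, 4]],
  .orbit [1, 0, 2, 3, 4, 5, 7, 3, 8, 7]
    [⟨false, [[1, 0, 2, 1, 3, 4]]⟩, ⟨false, [[1, 2, 3, 4, 5, 6]]⟩, ⟨false, [[1, 2, 3, 4, 5, 6, 7, 3, 2, 4, 3, 7]]⟩, ⟨false, [[1, 0, 2, 1, 3, 2, 7, 3, 8, 7]]⟩, ⟨false, [[1, 2, 3, 4, 5, 6, 7, 3, 2, 1, 4, 3, 5, 7, 8, 7, 3, 2, 4, 3, 7]]⟩, ⟨false, [[1, 0, 2, 3, 4, 5]]⟩]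
    [[], [0, 2, 3, 4, 5], [0], [2, 3, 4, 5], [0, 2, 3, 4], [1], [2, 3, 4], [2], [0, 1, 4, 3], [2, 3], [0, 1], [0, 1, 4], [0, 1, 2], [1, 4, 3, 5], [0, 1, 2, 3], [0, 1, 2, 4, 5], [1, 4, 5], [0, 2], [1, 4, 3], [1, 4, 3, 5, 4, 1], [0, 2, 3], [1, 4], [0, 1, 4, 3, 5, 4], [1, 2, 4], [1, 2], [0, 1, 4, 3, 5], [1, 2, 3], [0, 1, 4, 3, 5, 4, 1], [0, 1, 4, 5], [1, 2, 4, 5], [1, 4, 3, 5, 4], [0, 1, 2, 4]],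
  .orbit [1, 0, 2, 3, 4, 5, 7, 3, 2, 4, 8, 7]
    [⟨false, [[1, 0, 2, 1, 3, 2]]⟩, ⟨false, [[1, 2, 3, 4, 5, 6, 7, 3, 2, 1, 4, 3, 5, 7]]⟩, ⟨false, [[1, 2, 3, 4, 5, 6, 7, 3, 2, 1, 4, 3, 5, 7, 8, 7, 3, 2, 4, 3, 7, 8]]⟩, ⟨false, [[1, 0, 2, 3, 4, 5]]⟩, ⟨false, [[1, 0, 2, 1, 3, 2, 7, 3, 8, 7]]⟩]
    [[], [1, 2], [0], [0, 1, 2], [1, 2, 3], [0, 1, 2, 3], [0, 2, 3], [2, 3], [0, 2, 3, 4], [1], [2, 3, 4], [2], [0, 1], [1, 4], [0, 2], [2, 4], [0, 1, 4], [0, 2, 4], [2, 3, 4, 2], [0, 2, 3, 4, 2]],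
  .orbit [1, 2, 3, 4, 5, 6, 7, 3, 8, 7]
    [⟨false, [[1, 0, 2, 3, 4, 5]]⟩, ⟨false, [[1, 0, 2, 3, 4, 5, 7, 3, 2, 4, 3, 7]]⟩, ⟨false, [[1, 0, 2, 1, 3, 2, 7, 3, 8, 7]]⟩, ⟨false, [[1, 0, 2, 1, 3, 4, 7, 3, 8, 7]]⟩]
    [[], [0], [1], [1, 2], [0, 3], [0, 1, 2, 3], [0, 1], [0, 1, 3], [0, 1, 2]],
  .orbit [1, 2, 3, 4, 5, 6, 7, 3, 2, 1, 4, 3, 2, 5, 4, 7, 8, 7, 3, 2, 1, 4, 3, 2, 5, 4, 7, 3, 2, 4]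
    [⟨false, [[1, 0, 2, 1, 3, 2, 7, 3, 8, 7]]⟩, ⟨false, [[1, 0, 2, 1, 3, 4, 7, 3, 8, 7]]⟩]
    [[], [0, 1], [0], [1]],
  .orbit [1, 0, 2, 1, 3, 7]
    [⟨true, []⟩]
    [[], [0]],
  .orbit [1, 0, 2, 1, 3, 2, 4, 7]
    []
    [[]],
  .orbit [1, 0, 2, 3, 4, 5]
    [⟨false, [[1, 2, 3, 4, 5, 6, 7, 3, 2, 1, 4, 3, 2, 5, 8, 7, 3, 2, 1, 4, 3, 2, 5, 4, 7, 3, 2, 4, 5, 6], [1, 2, 3, 4, 5, 6, 7, 3, 8, 7], [1, 2, 3, 4, 5, 6, 7, 3, 2, 1, 4, 3, 2, 5, 4, 7, 8, 7, 3, 2, 1, 4, 3, 2, 5, 4, 7, 3, 2, 4], [1, 0, 2, 3, 4, 5, 7, 3, 8, 7]]⟩]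
    [[], [0]],
  .orbit [1, 0, 2, 1, 3, 2, 7, 3, 8, 7]
    []
    [[]],
  .orbit [1, 2, 3, 4, 5, 6]
    []
    [[]],
  .derived [] [1, 2, 3, 4, 5, 6, 7, 3, 2, 1, 4, 3, 2, 5, 4, 7, 8, 7, 3, 2, 1, 4, 3, 2, 5, 4, 7, 3, 2, 4]
    [[1, 0, 2, 1, 3, 2, 7, 3, 8, 7], [1, 2, 3, 4, 5, 6], [1, 0, 2, 1, 3, 7], [1, 0, 2, 1, 3, 2, 4, 7], [1, 0, 2, 3, 4, 5], [1, 0, 2, 1, 3, 2, 4, 7], [1, 0, 2, 1, 3, 2, 7, 3, 8, 7], [1, 2, 3, 4, 5, 6, 7, 3, 2, 1, 4, 3, 2, 5, 4, 7, 8, 7, 3, 2, 1, 4, 3, 2, 5, 4, 7, 3, 2, 4]],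
  .derived [1, 0] [1, 0, 2, 1, 3, 4]
    [[1, 2, 3, 4, 5, 6, 7, 3, 8, 7], [1, 0, 2, 3, 4, 5], [1, 0, 2, 1, 3, 2, 4, 7], [1, 0, 2, 1, 3, 2, 7, 3, 8, 7], [1, 2, 3, 4, 5, 6, 7, 3, 2, 1, 4, 3, 2, 5, 4, 7, 8, 7, 3, 2, 1, 4, 3, 2, 5, 4, 7, 3, 2, 4], [1, 0, 2, 1, 3, 7]],
  .derived [1, 0, 2, 1] [1, 0, 2, 3, 4, 5, 7, 3, 2, 4, 8, 7]
    [[1, 2, 3, 4, 5, 6], [1, 2, 3, 4, 5, 6, 7, 3, 2, 1, 4, 3, 2, 5, 4, 7, 8, 7, 3, 2, 1, 4, 3, 2, 5, 4, 7, 3, 2, 4], [1, 0, 2, 1, 3, 2, 7, 3, 8, 7], [1, 0, 2, 1, 3, 7], [1, 2, 3, 4, 5, 6], [1, 0, 2, 1, 3, 2, 4, 7], [1, 0, 2, 1, 3, 2, 7, 3, 8, 7], [1, 0, 2, 1, 3, 7], [1, 0, 2, 3, 4, 5], [1, 2, 3, 4, 5, 6, 7, 3, 8, 7]],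
  .derived [1, 0, 2, 1, 3, 2, 4, 3] [1, 0, 2, 3, 4, 5, 7, 3, 2, 4, 8, 7]
    [[1, 2, 3, 4, 5, 6], [1, 2, 3, 4, 5, 6, 7, 3, 2, 1, 4, 3, 2, 5, 4, 7, 8, 7, 3, 2, 1, 4, 3, 2, 5, 4, 7, 3, 2, 4], [1, 0, 2, 1, 3, 2, 7, 3, 8, 7], [1, 0, 2, 1, 3, 2, 4, 7], [1, 2, 3, 4, 5, 6], [1, 0, 2, 1, 3, 7], [1, 0, 2, 1, 3, 2, 7, 3, 8, 7], [1, 0, 2, 1, 3, 2, 4, 7], [1, 0, 2, 3, 4, 5], [1, 2, 3, 4, 5, 6, 7, 3, 8, 7]],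
  .derived [1, 0, 2, 1, 3, 2, 4, 3, 5, 4] [1, 0, 2, 1, 3, 4]
    [[1, 2, 3, 4, 5, 6, 7, 3, 8, 7], [1, 0, 2, 3, 4, 5], [1, 0, 2, 1, 3, 7], [1, 0, 2, 1, 3, 2, 7, 3, 8, 7], [1, 2, 3, 4, 5, 6, 7, 3, 2, 1, 4, 3, 2, 5, 4, 7, 8, 7, 3, 2, 1, 4, 3, 2, 5, 4, 7, 3, 2, 4], [1, 0, 2, 1, 3, 2, 4, 7]],
  .derived [1, 0, 2, 1, 3, 2, 4, 3, 5, 4, 6, 5] [1, 2, 3, 4, 5, 6, 7, 3, 2, 1, 4, 3, 2, 5, 4, 7, 8, 7, 3, 2, 1, 4, 3, 2, 5, 4, 7, 3, 2, 4]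
    [[1, 0, 2, 1, 3, 2, 7, 3, 8, 7], [1, 2, 3, 4, 5, 6], [1, 0, 2, 1, 3, 7], [1, 0, 2, 1, 3, 2, 4, 7], [1, 0, 2, 3, 4, 5], [1, 0, 2, 1, 3, 7], [1, 0, 2, 1, 3, 2, 7, 3, 8, 7], [1, 2, 3, 4, 5, 6, 7, 3, 2, 1, 4, 3, 2, 5, 4, 7, 8, 7, 3, 2, 1, 4, 3, 2, 5, 4, 7, 3, 2, 4]],
  .derived [1, 0, 2, 1, 3, 2, 7, 3] [1, 0, 2, 1, 3, 2]
    [[1, 0, 2, 3, 4, 5, 7, 3, 2, 4, 8, 7], [1, 2, 3, 4, 5, 6], [1, 2, 3, 4, 5, 6, 7, 3, 2, 1, 4, 3, 2, 5, 4, 7, 8, 7, 3, 2, 1, 4, 3, 2, 5, 4, 7, 3, 2, 4], [1, 0, 2, 1, 3, 2, 7, 3, 8, 7], [1, 0, 2, 1, 3, 7], [1, 0, 2, 3, 4, 5], [1, 0, 2, 1, 3, 2, 4, 7], [1, 0, 2, 1, 3, 2, 7, 3, 8, 7], [1, 0, 2, 1, 3, 7], [1, 2, 3, 4, 5, 6], [1, 0, 2, 3, 4,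 5, 7, 3, 2, 4, 8, 7], [1, 0, 2, 1, 3, 7]]]

/-- the centraliser of the first and of the first member -/
def chA1 : List Lvl :=
  [.orbit [1, 0, 2, 1, 3, 2]
    []
    [[]],
  .orbit [1, 0, 2, 1, 3, 4]
    [⟨false, [[1, 0, 2, 3, 4, 5, 7, 3, 8, 7]]⟩, ⟨false, [[1, 2, 3, 4, 5, 6, 7, 3, 8, 7]]⟩, ⟨false, [[1, 2, 3, 4, 5, 6, 7, 3, 2, 1, 4, 3, 2, 5, 4, 3, 8, 7, 3, 2, 1, 0, 4, 3, 2, 5, 7, 3, 8, 7]]⟩, ⟨false, [[1, 0, 2, 1, 3, 4]]⟩, ⟨false, [[1, 0, 2, 3, 4, 5]]⟩, ⟨false, [[1, 0, 2, 3, 4, 5, 7, 3, 2, 4, 3, 7]]⟩, ⟨false, [[1, 2, 3, 4, 5, 6]]⟩]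
    [[], [1, 3, 4, 1], [0, 3, 6, 0], [0, 1, 4, 5, 1, 6, 2, 5], [1, 2, 4, 6], [0, 3], [1, 3], [1, 3, 5, 1], [0, 1, 4, 5, 1, 3, 6, 0], [0, 1, 4, 5, 1, 6, 2], [0, 2, 5], [2, 5, 6, 2], [0], [0, 1, 2, 3, 4, 1, 5], [1], [1, 4, 5, 1], [1, 2, 6], [0, 3, 6, 2, 5], [1, 3, 4], [1, 2, 4], [0, 3, 6], [1, 3, 4, 5, 2], [0, 1, 5, 6], [1, 4], [1, 3, 5, 2, 6], [0, 1, 4, 5, 1, 3, 6], [1, 3, 5], [0, 1, 4, 5], [2, 5], [0, 6], [0, 1, 4, 5, 6, 2], [0, 1, 4, 5, 1], [1, 4, 5], [0, 2], [0, 1, 2, 3, 4, 1], [0, 3, 6, 2], [2, 3, 5, 6], [1, 2], [0, 1, 2, 4], [0, 1, 5, 6, 2, 3], [0, 1, 4, 5, 1, 6], [1, 5], [2, 6], [2, 3, 5], [0, 1, 4, 5, 6, 2, 3], [0, 1, 4, 6], [2, 3], [0, 1, 2, 3], [0,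 1, 4, 5, 1, 3], [1, 3, 4, 5, 2, 6], [1, 3, 5, 2], [0, 1], [1, 3, 4, 5], [2, 5, 6], [0, 1, 5], [0, 1, 4, 5, 6], [2, 3, 6], [0, 1, 5, 6, 2], [0, 1, 2, 3, 4], [2], [0, 1, 6], [0, 1, 2], [0, 1, 4]],
  .orbit [1, 0, 2, 3, 4, 5, 7, 3, 8, 7]
    [⟨false, [[1, 0, 2, 1, 3, 4]]⟩, ⟨false, [[1, 2, 3, 4, 5, 6]]⟩, ⟨false, [[1, 2, 3, 4, 5, 6, 7, 3, 2, 4, 3, 7]]⟩, ⟨false, [[1, 0, 2, 1, 3, 2, 7, 3, 8, 7]]⟩, ⟨false, [[1, 2, 3, 4, 5, 6, 7, 3, 2, 1, 4, 3, 5, 7, 8, 7, 3, 2, 4, 3, 7]]⟩, ⟨false, [[1, 0, 2, 3, 4, 5]]⟩]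
    [[], [0, 2, 3, 4, 5], [0], [2, 3, 4, 5], [0, 2, 3, 4], [1], [2, 3, 4], [2], [0, 1, 4, 3], [2, 3], [0, 1], [0, 1, 4], [0, 1, 2], [1, 4, 3, 5], [0, 1, 2, 3], [0, 1, 2, 4, 5], [1, 4, 5], [0, 2], [1, 4, 3], [1, 4, 3, 5, 4, 1], [0, 2, 3], [1, 4], [0, 1, 4, 3, 5, 4], [1, 2, 4], [1, 2], [0, 1, 4, 3, 5], [1, 2, 3], [0, 1, 4, 3, 5, 4, 1], [0, 1, 4, 5], [1, 2, 4, 5], [1, 4, 3, 5, 4], [0, 1, 2, 4]],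
  .orbit [1, 0, 2, 3, 4, 5, 7, 3, 2, 4, 8, 7]
    [⟨false, [[1, 0, 2, 1, 3, 2]]⟩, ⟨false, [[1, 2, 3, 4, 5, 6, 7, 3, 2, 1, 4, 3, 5, 7]]⟩, ⟨false, [[1, 2, 3, 4, 5, 6, 7, 3, 2, 1, 4, 3, 5, 7, 8, 7, 3, 2, 4, 3, 7, 8]]⟩, ⟨false, [[1, 0, 2, 3, 4, 5]]⟩, ⟨false, [[1, 0, 2, 1, 3, 2, 7, 3, 8, 7]]⟩]
    [[], [1, 2], [0], [0, 1, 2], [1, 2, 3], [0, 1, 2, 3], [0, 2, 3], [2, 3], [0, 2, 3, 4], [1], [2, 3, 4], [2], [0, 1], [1, 4], [0, 2], [2, 4], [0, 1, 4], [0, 2, 4], [2, 3, 4, 2], [0, 2, 3, 4, 2]],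
  .orbit [1, 2, 3, 4, 5, 6, 7, 3, 8, 7]
    [⟨false, [[1, 0, 2, 3, 4, 5]]⟩, ⟨false, [[1, 0, 2, 3, 4, 5, 7, 3, 2, 4, 3, 7]]⟩, ⟨false, [[1, 0, 2, 1, 3, 2, 7, 3, 8, 7]]⟩, ⟨false, [[1, 0, 2, 1, 3, 4, 7, 3, 8, 7]]⟩]
    [[], [0], [1], [1, 2], [0, 3], [0, 1, 2, 3], [0, 1], [0, 1, 3], [0, 1, 2]],
  .orbit [1, 2, 3, 4, 5, 6, 7, 3, 2, 1, 4, 3, 2, 5, 4, 7, 8, 7, 3, 2, 1, 4, 3, 2, 5, 4, 7, 3, 2, 4]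
    [⟨false, [[1, 0, 2, 1, 3, 2, 7, 3, 8, 7]]⟩, ⟨false, [[1, 0, 2, 1, 3, 4, 7, 3, 8, 7]]⟩]
    [[], [0, 1], [0], [1]],
  .orbit [1, 0, 2, 1, 3, 7]
    [⟨true, []⟩]
    [[], [0]],
  .orbit [1, 0, 2, 1, 3, 2, 4, 7]
    []
    [[]],
  .orbit [1, 0, 2, 3, 4, 5]
    [⟨false, [[1, 2, 3, 4, 5, 6, 7, 3, 2, 1, 4, 3, 2, 5, 8, 7, 3, 2, 1, 4, 3, 2, 5, 4, 7, 3, 2, 4, 5, 6], [1, 2, 3, 4, 5, 6, 7, 3, 8, 7], [1, 2, 3, 4, 5, 6, 7, 3, 2, 1, 4, 3, 2, 5, 4, 7, 8, 7, 3, 2, 1, 4, 3, 2, 5, 4, 7, 3, 2, 4], [1, 0, 2, 3, 4, 5, 7, 3, 8, 7]]⟩]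
    [[], [0]],
  .orbit [1, 0, 2, 1, 3, 2, 7, 3, 8, 7]
    []
    [[]],
  .orbit [1, 2, 3, 4, 5, 6]
    []
    [[]],
  .derived [] [1, 2, 3, 4, 5, 6, 7, 3, 2, 1, 4, 3, 2, 5, 4, 7, 8, 7, 3, 2, 1, 4, 3, 2, 5, 4, 7, 3, 2, 4]
    [[1, 0, 2, 1, 3, 2, 7, 3, 8, 7], [1, 2, 3, 4, 5, 6], [1, 0, 2, 1, 3, 7], [1, 0, 2, 1, 3, 2, 4, 7], [1, 0, 2, 3, 4, 5], [1, 0, 2, 1, 3, 2, 4, 7], [1, 0, 2, 1, 3, 2, 7, 3, 8, 7], [1, 2, 3, 4, 5, 6, 7, 3, 2, 1, 4, 3, 2, 5, 4, 7, 8, 7, 3, 2, 1, 4, 3, 2, 5, 4, 7, 3, 2, 4]],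
  .derived [1, 0] [1, 0, 2, 1, 3, 4]
    [[1, 2, 3, 4, 5, 6, 7, 3, 8, 7], [1, 0, 2, 3, 4, 5], [1, 0, 2, 1, 3, 2, 4, 7], [1, 0, 2, 1, 3, 2, 7, 3, 8, 7], [1, 2, 3, 4, 5, 6, 7, 3, 2, 1, 4, 3, 2, 5, 4, 7, 8, 7, 3, 2, 1, 4, 3, 2, 5, 4, 7, 3, 2, 4], [1, 0, 2, 1, 3, 7]],
  .derived [1, 0, 2, 1] [1, 0, 2, 3, 4, 5, 7, 3, 2, 4, 8, 7]
    [[1, 2, 3, 4, 5, 6], [1, 2, 3, 4, 5, 6, 7, 3, 2, 1, 4, 3, 2, 5, 4, 7, 8, 7, 3, 2, 1, 4, 3, 2, 5, 4, 7, 3, 2, 4], [1, 0, 2, 1, 3, 2, 7, 3, 8, 7], [1, 0, 2, 1, 3, 7], [1, 2, 3, 4, 5, 6], [1, 0, 2, 1, 3, 2, 4, 7], [1, 0, 2, 1, 3, 2, 7, 3, 8, 7], [1, 0, 2, 1, 3, 7], [1, 0, 2, 3, 4, 5], [1, 2, 3, 4, 5, 6, 7, 3, 8, 7]],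
  .derived [1, 0, 2, 1, 3, 2, 4, 3] [1, 0, 2, 3, 4, 5, 7, 3, 2, 4, 8, 7]
    [[1, 2, 3, 4, 5, 6], [1, 2, 3, 4, 5, 6, 7, 3, 2, 1, 4, 3, 2, 5, 4, 7, 8, 7, 3, 2, 1, 4, 3, 2, 5, 4, 7, 3, 2, 4], [1, 0, 2, 1, 3, 2, 7, 3, 8, 7], [1, 0, 2, 1, 3, 2, 4, 7], [1, 2, 3, 4, 5, 6], [1, 0, 2, 1, 3, 7], [1, 0, 2, 1, 3, 2, 7, 3, 8, 7], [1, 0, 2, 1, 3, 2, 4, 7], [1, 0, 2, 3, 4, 5], [1, 2, 3, 4, 5, 6, 7, 3, 8, 7]],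
  .derived [1, 0, 2, 1, 3, 2, 4, 3, 5, 4] [1, 0, 2, 1, 3, 4]
    [[1, 2, 3, 4, 5, 6, 7, 3, 8, 7], [1, 0, 2, 3, 4, 5], [1, 0, 2, 1, 3, 7], [1, 0, 2, 1, 3, 2, 7, 3, 8, 7], [1, 2, 3, 4, 5, 6, 7, 3, 2, 1, 4, 3, 2, 5, 4, 7, 8, 7, 3, 2, 1, 4, 3, 2, 5, 4, 7, 3, 2, 4], [1, 0, 2, 1, 3, 2, 4, 7]],
  .derived [1, 0, 2, 1, 3, 2, 4, 3, 5, 4, 6, 5] [1, 2, 3, 4, 5, 6, 7, 3, 2, 1, 4, 3, 2, 5, 4, 7, 8, 7, 3, 2, 1, 4, 3, 2, 5, 4, 7, 3, 2, 4]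
    [[1, 0, 2, 1, 3, 2, 7, 3, 8, 7], [1, 2, 3, 4, 5, 6], [1, 0, 2, 1, 3, 7], [1, 0, 2, 1, 3, 2, 4, 7], [1, 0, 2, 3, 4, 5], [1, 0, 2, 1, 3, 7], [1, 0, 2, 1, 3, 2, 7, 3, 8, 7], [1, 2, 3, 4, 5, 6, 7, 3, 2, 1, 4, 3, 2, 5, 4, 7, 8, 7, 3, 2, 1, 4, 3, 2, 5, 4, 7, 3, 2, 4]],
  .derived [1, 0, 2, 1, 3, 2, 7, 3] [1, 0, 2, 1, 3, 2]
    [[1, 0, 2, 3, 4, 5, 7, 3, 2, 4, 8, 7], [1, 2, 3, 4, 5, 6], [1, 2, 3, 4, 5, 6, 7, 3, 2, 1, 4, 3, 2, 5, 4, 7, 8, 7, 3, 2, 1, 4, 3, 2, 5, 4, 7, 3, 2, 4], [1, 0, 2, 1, 3, 2, 7, 3, 8, 7], [1, 0, 2, 1, 3, 7], [1, 0, 2, 3, 4, 5], [1, 0, 2, 1, 3, 2, 4, 7], [1, 0, 2, 1, 3, 2, 7, 3, 8, 7], [1, 0, 2, 1, 3, 7], [1, 2, 3, 4, 5, 6], [1, 0, 2, 3, 4,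 5, 7, 3, 2, 4, 8, 7], [1, 0, 2, 1, 3, 7]]]

/-- the kernel on 63 points -/
def chKA : List Lvl :=
  [.orbit [1, 0, 2, 3, 4, 5, 7, 3, 2, 4, 8, 7]
    [⟨false, [[1, 0, 2, 1, 3, 2]]⟩]
    [[], [0]],
  .orbit []
    [⟨true, []⟩]
    [[], [0]],
  .derived [1, 0] [1, 2, 3, 4, 5, 6, 7, 3, 2, 1, 4, 3, 2, 5, 8, 7, 3, 2, 1, 0, 4, 3, 2, 5, 7, 3, 4, 8, 7, 3, 2]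
    [[], [1, 2, 3, 4, 5, 6, 7, 3, 2, 1, 4, 3, 2, 5, 8, 7, 3, 2, 1, 4, 3, 2, 5, 7, 3, 4, 8, 7, 3, 2, 1]],
  .derived [1, 0, 2, 1] [1, 2, 3, 4, 5, 6, 7, 3, 2, 1, 4, 5, 8, 7, 3, 2, 1, 0, 4, 3, 2, 5, 4, 6]
    [[1, 0, 2, 3, 4, 5, 7, 3, 2, 4, 8, 7], [], [1, 2, 3, 4, 5, 6, 7, 3, 2, 1, 4, 3, 2, 5, 8, 7, 3, 2, 1, 4, 3, 2, 5, 7, 3, 4, 8, 7, 3, 2, 1]],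
  .derived [1, 0, 2, 1, 3, 2, 4, 3] [1, 2, 3, 4, 5, 6, 7, 3, 2, 1, 4, 5, 8, 7, 3, 2, 1, 0, 4, 3, 2, 5, 4, 6]
    [[1, 0, 2, 3, 4, 5, 7, 3, 2, 4, 8, 7], [], [1, 2, 3, 4, 5, 6, 7, 3, 2, 1, 4, 3, 2, 5, 4, 7, 8, 7, 3, 2, 1, 4, 3, 2, 5, 7, 3, 4, 8, 7, 3, 2, 1]],
  .derived [1, 0, 2, 1, 3, 2, 4, 3, 5, 4] [1, 2, 3, 4, 5, 6, 7, 3, 2, 1, 4, 3, 2, 5, 8, 7, 3, 2, 1, 0, 4, 3, 2, 5, 7, 3, 4, 8, 7, 3, 2]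
    [[], [1, 2, 3, 4, 5, 6, 7, 3, 2, 1, 4, 3, 2, 5, 8, 7, 3, 2, 1, 4, 3, 2, 5, 7, 3, 4, 5, 8, 7, 3, 2]],
  .derived [1, 0, 2, 1, 3, 2, 4, 3, 5, 4, 6, 5] [1, 0, 2, 3, 4, 5]
    [[], [1, 2, 3, 4, 5, 6]],
  .derived [1, 0, 2, 1, 3, 2, 7, 3] [1, 0, 2, 3, 4, 5]
    [[], [1, 0, 2, 3, 4, 5, 7, 3, 8, 7], [1, 0, 2, 3, 4, 5, 7, 3, 2, 4, 3, 7], [1, 0, 2, 3, 4, 5, 7, 3, 2, 4, 8, 7], [], [1, 0, 2, 3, 4, 5, 7, 3, 2, 4, 8, 7, 3, 2, 1, 4, 5]]]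

/-- the centraliser of the third -/
def chB : List Lvl :=
  [.orbit [1, 0, 2, 1]
    [⟨false, [[1, 0, 2, 1, 3]]⟩, ⟨false, [[1, 0, 2, 1, 3, 2, 4]]⟩, ⟨false, [[1, 2, 3, 4, 5, 6, 7, 3, 2, 1, 4, 3, 2, 5, 7]]⟩, ⟨false, [[1, 2, 3, 4, 5, 6, 7, 3, 2, 1, 4, 3, 2, 5, 7, 8, 7, 3, 2, 4, 3, 7, 8]]⟩, ⟨false, [[1, 0, 2, 1]]⟩, ⟨false, [[1, 0, 2, 3, 4, 5]]⟩, ⟨false, [[1, 0, 2, 1, 3, 2, 7, 3, 8, 7]]⟩]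
    [[], [0, 4], [0], [1], [3, 4, 5, 3], [0, 1, 3, 4, 5, 3], [1, 4], [0, 1], [2, 4, 6, 2], [0, 1, 2, 4, 6, 3], [1, 2, 3, 4, 5, 3], [0, 2, 3, 4, 5, 3], [1, 2, 3, 4, 5, 3, 6], [0, 2, 3, 4, 5, 3, 6], [2], [2, 4], [0, 1, 2, 4], [2, 6], [0, 1, 2], [0, 2], [2, 4, 6], [1, 2], [0, 1, 2, 4, 6], [0, 1, 2, 4, 6, 3, 5], [0, 1, 2, 6], [0, 2, 6], [1, 2, 6], [2, 4, 6, 3, 5], [0, 1, 3, 6], [3, 4, 6], [0, 1, 3, 4, 6], [0, 1, 3], [3, 6], [0, 3, 6], [3, 4], [1, 3, 6], [0, 1, 3, 4], [0, 1, 3, 5, 6, 3], [3, 5, 6, 3], [3], [0, 3], [1, 3], [1, 3, 5, 6, 3, 4], [0, 3, 5, 6, 3, 4], [0, 1, 2, 4, 6, 2], [1, 3, 5, 6, 3], [0, 3, 5, 6, 3], [2, 4, 6, 3], [0, 3, 5, 6], [1, 3, 5, 6], [3,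 4, 5, 6], [0, 3, 5], [0, 1, 3, 4, 5, 6], [1, 3, 5], [0, 2, 3], [3, 5, 6], [0, 1, 3, 5, 6], [3, 4, 5], [0, 1, 3, 4, 5], [1, 2, 3], [0, 2, 3, 4], [1, 2, 3, 4], [3, 5], [0, 1, 3, 5], [2, 3, 5], [0, 1, 2, 3, 5], [0, 2, 3, 5], [2, 3], [0, 1, 2, 3], [0, 2, 3, 4, 5], [1, 2, 3, 4, 5], [1, 2, 3, 5]],
  .orbit [1, 0, 2, 1, 3]
    [⟨false, [[1, 0, 2, 1]]⟩, ⟨false, [[1, 0, 2, 1, 3, 2, 4, 3]]⟩, ⟨false, [[1, 2, 3, 4, 5, 6, 7, 3, 2, 1, 4, 3, 2, 5, 7, 3]]⟩, ⟨false, [[1, 2, 3, 4, 5, 6, 7, 3, 2, 1, 4, 3, 2, 5, 7, 3, 8, 7, 3, 2, 4, 3, 7, 8]]⟩, ⟨false, [[1, 0, 2, 3, 4, 5]]⟩, ⟨false, [[1, 0, 2, 1, 3, 2, 7, 3, 8, 7]]⟩]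
    [[], [0], [1], [0, 1], [2], [0, 2], [1, 2], [2, 5], [0, 1, 2], [0, 2, 5], [1, 2, 5], [0, 1, 2, 5], [0, 1, 3, 5], [0, 3, 5], [1, 3, 5], [0, 1, 3], [3, 5], [0, 3], [1, 3], [3], [0, 1, 3, 4, 5, 3], [3, 4, 5, 3], [1, 3, 4, 5, 3], [0, 3, 4, 5, 3], [0, 3, 4, 5], [1, 3, 4, 5], [0, 2, 3], [3, 4, 5], [0, 1, 3, 4, 5], [0, 3, 4], [1, 3, 4], [1, 2, 3], [2, 3], [0, 1, 2, 3], [3, 4], [0, 1, 3, 4], [0, 2, 3, 4], [2, 3, 4], [0, 1, 2, 3, 4], [1, 2, 3, 4]],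
  .orbit [1, 0, 2, 3, 4, 5]
    [⟨false, [[1, 0, 2, 3, 4, 5], [1, 0, 2, 1, 3, 4, 7, 3, 8, 7]]⟩, ⟨false, [[1, 2, 3, 4, 5, 6]]⟩, ⟨false, [[1, 0, 2, 1, 3, 2], [1, 2, 3, 4, 5, 6, 7, 3, 2, 1, 4, 3, 2, 5, 4, 3, 8, 7, 3, 2, 1, 0, 4, 3, 2, 1, 7, 3, 8, 7], [1, 2, 3, 4, 5, 6, 7, 3, 2, 1, 4, 3, 5, 7, 8], [1, 2, 3, 4, 5, 6, 7, 3, 2, 1, 4, 3, 2, 5, 4, 7, 8, 7, 3, 2, 4, 3, 7]]⟩]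
    [[], [0, 1, 0], [0, 1, 2], [0, 0], [0, 2], [0, 0, 1, 2], [0, 1, 0, 2], [2], [0], [0, 0, 1], [0, 0, 2], [0, 1]],
  .orbit [1, 2, 3, 4, 5, 6, 7, 3, 2, 1, 4, 3, 5, 7, 8, 7, 3, 2, 4, 3, 7]
    [⟨false, [[1, 0, 2, 3, 4, 5]]⟩, ⟨false, [[1, 2, 3, 4, 5, 6]]⟩, ⟨false, [[1, 0, 2, 1, 3, 2, 7, 3, 8, 7]]⟩, ⟨false, [[1, 0, 2, 3, 4, 5, 7, 3, 2, 4, 3, 7]]⟩]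
    [[], [2], [0, 1], [0, 1, 2], [0, 2, 3], [1], [0], [1, 2, 3], [1, 2], [0, 2], [2, 3], [0, 1, 2, 3]],
  .orbit [1, 0, 2, 1, 3, 4, 7, 3, 8, 7]
    [⟨false, [[1, 2, 3, 4, 5, 6, 7, 3, 2, 4, 3, 7, 8], [1, 2, 3, 4, 5, 6], [1, 0, 2, 3, 4, 5, 7, 3, 2, 4, 3, 7, 8], [1, 0, 2, 3, 4, 5]]⟩]
    [[], [0]],
  .orbit [1, 0, 2, 1, 3, 2, 7, 3, 8, 7]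
    [⟨false, [[1, 0, 2, 3, 4, 5, 7, 3, 2, 4, 3, 7]]⟩, ⟨false, [[1, 2, 3, 4, 5, 6, 7, 3, 2, 4, 3, 7]]⟩]
    [[], [0], [1], [0, 1]],
  .orbit [1, 2, 3, 4, 5, 6]
    []
    [[]],
  .orbit []
    [⟨true, []⟩]
    [[], [0]],
  .orbit [1, 2, 3, 4, 7]
    []
    [[]],
  .derived [1, 0] [1, 0, 2, 1]
    [[1, 2, 3, 4, 5, 6, 7, 3, 2, 1, 4, 3, 5, 7, 8, 7, 3, 2, 4, 3, 7], [1, 0, 2, 1, 3, 4, 7, 3, 8, 7], [1, 0, 2, 1, 3, 2, 7, 3, 8, 7], [1, 2, 3, 4, 5, 6, 7, 3, 2, 1, 4, 3, 5, 7, 8, 7, 3, 2, 4, 3, 7], [1, 0, 2, 1, 3], [1, 2, 3, 4, 7], [1, 0, 2, 1, 3, 2, 7, 3, 8, 7], [1, 2, 3, 4, 5, 6, 7, 3, 2, 1, 4, 3, 5, 7, 8, 7, 3, 2, 4, 3, 7], [1, 0, 2, 1]],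
  .derived [1, 0, 2, 1, 3, 2] [1, 0, 2, 1]
    [[1, 0, 2, 1, 3]],
  .derived [1, 0, 2, 1, 3, 2, 4, 3] [1, 0, 2, 1]
    [[1, 2, 3, 4, 5, 6, 7, 3, 2, 1, 4, 3, 5, 7, 8, 7, 3, 2, 4, 3, 7], [1, 0, 2, 3, 4, 5], [1, 2, 3, 4, 5, 6], [1, 2, 3, 4, 5, 6, 7, 3, 2, 1, 4, 3, 5, 7, 8, 7, 3, 2, 4, 3, 7]],
  .derived [1, 0, 2, 1, 3, 2, 4, 3, 5, 4] [1, 2, 3, 4, 5, 6, 7, 3, 2, 1, 4, 3, 5, 7, 8, 7, 3, 2, 4, 3, 7]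
    [[1, 0, 2, 1, 3, 2, 7, 3, 8, 7], [1, 2, 3, 4, 7], [1, 0, 2, 1, 3], [1, 0, 2, 1], [], [1, 2, 3, 4, 7], [1, 0, 2, 1, 3, 2, 7, 3, 8, 7], [1, 2, 3, 4, 5, 6, 7, 3, 2, 1, 4, 3, 5, 7, 8, 7, 3, 2, 4, 3, 7], [1, 0, 2, 3, 4, 5]],
  .derived [1, 0, 2, 1, 3, 2, 4, 3, 5, 4, 6, 5] [1, 0, 2, 3, 4, 5]
    [[], [1, 2, 3, 4, 5, 6]],
  .derived [1, 0, 2, 1, 3, 2, 7, 3] [1, 0, 2, 1, 3]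
    [[1, 2, 3, 4, 7], [1, 0, 2, 1, 3, 2, 7, 3, 8, 7], [1, 2, 3, 4, 5, 6, 7, 3, 2, 1, 4, 3, 5, 7, 8, 7, 3, 2, 4, 3, 7], [1, 0, 2, 1], [], [1, 2, 3, 4, 7], [1, 0, 2, 1, 3, 2, 7, 3, 8, 7], [1, 2, 3, 4, 5, 6, 7, 3, 2, 1, 4, 3, 5, 7, 8, 7, 3, 2, 4, 3, 7]]]

/-- the kernel on 36 pairs -/
def chKB : List Lvl :=
  [.orbit [1, 0, 2, 1]
    [⟨false, [[1, 0, 2, 1, 3], [1, 0, 2, 1, 3, 2, 4]]⟩]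
    [[], [0]],
  .orbit [1, 0, 2, 1, 3]
    [⟨false, [[1, 0, 2, 1], [1, 0, 2, 1, 3, 2, 4, 3]]⟩]
    [[], [0]],
  .orbit [1, 0, 2, 3, 4, 5]
    [⟨false, [[1, 0, 2, 1, 3, 4, 7, 3, 8, 7], [1, 2, 3, 4, 5, 6, 7, 3, 2, 1, 4, 3, 2, 5, 7, 3, 8, 7, 3, 2, 1, 0, 4, 3, 2, 1]]⟩]
    [[], [0]],
  .orbit [1, 0, 2, 1, 3, 2, 7, 3, 8, 7]
    [⟨false, [[1, 0, 2, 3, 4, 5, 7, 3, 2, 4, 3, 7], [1, 2, 3, 4, 5, 6, 7, 3, 2, 4, 3, 7]]⟩]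
    [[], [0]],
  .orbit [1, 0, 2, 1, 3, 4, 7, 3, 8, 7]
    [⟨false, [[1, 0, 2, 3, 4, 5], [1, 2, 3, 4, 5, 6]]⟩]
    [[], [0]],
  .orbit [1, 0, 2, 3, 4, 5, 7, 3, 2, 4, 3, 7]
    [⟨false, [[1, 0, 2, 1, 3, 2, 7, 3, 8, 7], [1, 2, 3, 4, 5, 6, 7, 3, 2, 1, 4, 3, 2, 5, 4, 3, 8, 7, 3, 2, 1, 0, 4, 3, 2, 1]]⟩]
    [[], [0]],
  .orbit [1, 2, 3, 4, 5, 6]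
    []
    [[]],
  .orbit [1, 0, 2, 1, 3, 2, 4]
    []
    [[]],
  .orbit [1, 2, 3, 4, 5, 6, 7, 3, 2, 4, 3, 7]
    []
    [[]],
  .orbit []
    [⟨true, []⟩]
    [[], [0]],
  .orbit [1, 2, 3]
    []
    [[]],
  .derived [1, 0] [1, 0, 2, 1, 3]
    [[1, 2, 3], []],
  .derived [1, 0, 2, 1, 3, 2] [1, 0, 2, 1]
    [[1, 0, 2, 1, 3]],
  .derived [1, 0, 2, 1, 3, 2, 4, 3] [1, 0, 2, 1]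
    [[1, 0, 2, 1, 3], [1, 0, 2, 1, 3, 2, 4]],
  .derived [1, 0, 2, 1, 3, 2, 4, 3, 5, 4] [1, 0, 2, 1]
    [[1, 0, 2, 1, 3], [1, 0, 2, 1, 3, 2, 4], [1, 2, 3], [], [1, 0, 2, 3, 4, 5]],
  .derived [1, 0, 2, 1, 3, 2, 4, 3, 5, 4, 6, 5] [1, 0, 2, 3, 4, 5]
    [[], [1, 2, 3, 4, 5, 6]],
  .derived [1, 0, 2, 1, 3, 2, 7, 3] [1, 0, 2, 1]
    [[1, 0, 2, 1, 3], [1, 0, 2, 1, 3, 2, 4], [1, 2, 3], [1, 0, 2, 1, 3, 4, 7, 3, 8, 7], [1, 0, 2, 3, 4, 5], [], [1, 0, 2, 3, 4, 5, 7, 3, 2, 4, 3, 7], [1, 0, 2, 1, 3, 2, 7, 3, 8, 7], [1, 2, 3]]]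

/-- the trivial kernel on 72 points -/
def chKZ : List Lvl :=
  [.orbit []
    [⟨true, []⟩]
    [[], [0]],
  .orbit [1]
    []
    [[]],
  .derived [1, 0] []
    [[1]],
  .derived [1, 0, 2, 1, 3, 2, 4, 3, 5, 4] [1, 2, 3, 4, 5, 6, 7, 3, 2, 1, 4, 3, 2, 5, 8, 7, 3, 2, 1, 4, 3, 2, 5, 7, 3, 4, 8, 7, 3, 2, 1]
    [[1], [1, 2, 3, 4, 5, 6, 7, 3, 2, 1, 4, 3, 2, 5, 4, 7, 8, 7, 3, 2, 1, 4, 3, 2, 5, 7, 3, 4, 8, 7, 3, 2, 1]],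
  .derived [1, 0, 2, 1, 3, 2, 4, 3, 5, 4, 6, 5] [1, 0, 2, 3, 4, 5]
    [[], [1, 2, 3, 4, 5, 6]],
  .derived [1, 0, 2, 1, 3, 2, 7, 3] [1, 0, 2, 1]
    [[1], [1, 0, 2, 1, 3, 4, 7, 3, 8, 7], [1, 2, 3, 4, 5, 6, 7, 3, 2, 1, 4, 3, 2, 5, 4, 3, 8, 7, 3, 2, 1, 0, 4, 3, 2, 1], [1], [1, 2, 3, 4, 5, 6, 7, 3, 2, 1, 4, 3, 2, 5, 7, 3, 8, 7, 3, 2, 4, 3, 7]]]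

/-- the automorphisms fixing the base of 22 -/
def chE : List Lvl :=
  [.orbit [1]
    [⟨false, [[]]⟩, ⟨false, [[1, 0, 2, 1, 3, 4]]⟩, ⟨false, [[1, 0, 2, 1, 3, 7]]⟩, ⟨false, [[1, 0, 2, 1, 3, 4, 5, 6, 7, 3, 4, 5]]⟩, ⟨false, [[1, 2, 3, 4, 5, 6, 7, 3, 2, 1, 4, 3, 2, 5, 8, 7, 3, 2, 4, 3, 7, 8]]⟩]
    [[], [0], [1], [2], [0, 1], [0, 2], [1, 2], [0, 1, 2], [3], [0, 3], [1, 3], [2, 3], [0, 1, 3], [0, 2, 3], [1, 2, 3], [0, 1, 2, 3], [0, 4], [0, 1, 3, 4], [1, 2, 3, 4], [4], [1, 3, 4], [0, 1, 2, 3, 4], [0, 1, 4], [1, 4], [0, 3, 4], [1, 2, 4], [2, 3, 4], [0, 2, 4], [3, 4], [0, 1, 2, 4], [0, 2, 3, 4], [2, 4]],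
  .orbit [1, 0, 2]
    [⟨false, [[1, 0, 2, 1, 3, 2]]⟩, ⟨false, [[1, 0, 2, 1, 3, 2, 4, 7]]⟩, ⟨false, [[1, 2, 3, 4, 5, 6, 7, 3, 2, 1, 4, 3, 2, 5]]⟩]
    [[], [0], [1], [0, 1], [0, 2], [2], [0, 1, 2], [1, 2]],
  .orbit [1, 2, 3, 4, 5]
    [⟨false, [[1, 0, 2, 1, 3, 2, 4, 3, 5, 4, 6, 5]]⟩, ⟨false, [[1, 2, 3, 4, 5, 7, 3, 2, 1, 4, 3, 2, 7, 3, 4, 5]]⟩]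
    [[], [0], [1], [0, 1]],
  .derived [1, 0] []
    [[1]],
  .derived [1, 0, 2, 1] []
    [[1], [1, 0, 2]],
  .derived [1, 0, 2, 1, 3, 2, 4, 3] []
    [[1], [1, 0, 2, 1, 3, 4], [1, 0, 2], [1, 0, 2, 1, 3, 2]],
  .derived [1, 0, 2, 1, 3, 2, 4, 3, 5, 4] [1, 0, 2, 1, 3, 4]
    [[1], [1, 2, 3, 4, 5]],
  .derived [1, 0, 2, 1, 3, 2, 7, 3] []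
    [[1], [1, 0, 2, 1, 3, 4], [1, 0, 2], [1, 0, 2, 1, 3, 2, 4, 7]],
  .derived [1, 0, 2, 1, 3, 2, 7, 3, 8, 7] [1, 2, 3, 4, 5, 6, 7, 3, 2, 1, 4, 3, 2, 5, 8, 7, 3, 2, 4, 3, 7, 8]
    [[1], [1, 0, 2], [], [1, 2, 3, 4, 5], [1, 2, 3, 4, 5, 6, 7, 3, 2, 1, 4, 3, 5, 4, 8, 7, 3, 2, 4, 3, 7, 8], [1], [1, 0, 2], [1, 2, 3, 4, 5], [1, 2, 3, 4, 5, 6, 7, 3, 2, 1, 4, 3, 5, 4, 8, 7, 3, 2, 4, 3, 7, 8]]]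

/-- the points fixed by the second automorphism -/
def f1W : List (List ℕ) :=
  [[1, 0, 2, 1, 3, 2],
  [1, 0, 2, 1, 3, 4],
  [1, 0, 2, 3, 4, 5],
  [1, 2, 3, 4, 5, 6],
  [1, 0, 2, 1, 3, 2, 7, 3, 8, 7],
  [1, 0, 2, 1, 3, 4, 7, 3, 8, 7],
  [1, 0, 2, 3, 4, 5, 7, 3, 8, 7],
  [1, 2, 3, 4, 5, 6, 7, 3, 8, 7],
  [1, 0, 2, 3, 4, 5, 7, 3, 2, 4, 3, 7],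
  [1, 2, 3, 4, 5, 6, 7, 3, 2, 4, 3, 7],
  [1, 0, 2, 3, 4, 5, 7, 3, 2, 4, 3, 7, 8],
  [1, 2, 3, 4, 5, 6, 7, 3, 2, 4, 3, 7, 8],
  [1, 2, 3, 4, 5, 6, 7, 3, 2, 1, 4, 3, 5, 7],
  [1, 0, 2, 3, 4, 5, 7, 3, 2, 4, 8, 7, 3, 2, 4],
  [1, 2, 3, 4, 5, 6, 7, 3, 2, 1, 4, 3, 5, 7, 8],
  [1, 2, 3, 4, 5, 6, 7, 3, 2, 4, 8, 7, 3, 2, 4],
  [1, 2, 3, 4, 5, 6, 7, 3, 2, 1, 4, 3, 2, 5, 4, 7],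
  [1, 0, 2, 3, 4, 5, 7, 3, 2, 4, 8, 7, 3, 2, 1, 4, 5],
  [1, 2, 3, 4, 5, 6, 7, 3, 2, 1, 4, 3, 2, 5, 4, 7, 8],
  [1, 2, 3, 4, 5, 6, 7, 3, 2, 4, 8, 7, 3, 2, 1, 4, 5],
  [1, 0, 2, 3, 4, 5, 7, 3, 2, 4, 8, 7, 3, 2, 1, 0, 4, 5, 6],
  [1, 2, 3, 4, 5, 6, 7, 3, 2, 4, 8, 7, 3, 2, 1, 0, 4, 5, 6],
  [1, 2, 3, 4, 5, 6, 7, 3, 2, 1, 4, 3, 5, 7, 8, 7, 3, 2, 4, 3, 7],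
  [1, 2, 3, 4, 5, 6, 7, 3, 2, 1, 4, 3, 5, 7, 8, 7, 3, 2, 4, 3, 7, 8],
  [1, 2, 3, 4, 5, 6, 7, 3, 2, 1, 4, 5, 8, 7, 3, 2, 1, 4, 3, 2, 5, 4],
  [1, 2, 3, 4, 5, 6, 7, 3, 2, 1, 4, 3, 2, 5, 4, 7, 8, 7, 3, 2, 4, 3, 7],
  [1, 2, 3, 4, 5, 6, 7, 3, 2, 1, 4, 3, 5, 7, 8, 7, 3, 2, 1, 4, 3, 5, 7],
  [1, 2, 3, 4, 5, 6, 7, 3, 2, 4, 3, 8, 7, 3, 2, 1, 4, 3, 2, 5, 4, 3, 7],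
  [1, 2, 3, 4, 5, 6, 7, 3, 2, 1, 4, 3, 2, 5, 4, 7, 8, 7, 3, 2, 4, 3, 7, 8],
  [1, 2, 3, 4, 5, 6, 7, 3, 2, 1, 4, 3, 5, 7, 8, 7, 3, 2, 1, 4, 3, 5, 7, 8],
  [1, 2, 3, 4, 5, 6, 7, 3, 2, 1, 4, 5, 8, 7, 3, 2, 1, 0, 4, 3, 2, 5, 4, 6],
  [1, 2, 3, 4, 5, 6, 7, 3, 2, 4, 3, 8, 7, 3, 2, 1, 4, 3, 2, 5, 4, 3, 7, 8],
  [1, 2, 3, 4, 5, 6, 7, 3, 2, 1, 4, 3, 2, 5, 4, 7, 8, 7, 3, 2, 1, 4, 3, 5, 7],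
  [1, 2, 3, 4, 5, 6, 7, 3, 2, 1, 4, 5, 8, 7, 3, 2, 1, 4, 3, 2, 7, 3, 4, 5, 6],
  [1, 2, 3, 4, 5, 6, 7, 3, 2, 1, 4, 3, 2, 5, 4, 3, 8, 7, 3, 2, 1, 0, 4, 3, 2, 1],
  [1, 2, 3, 4, 5, 6, 7, 3, 2, 1, 4, 3, 2, 5, 4, 3, 8, 7, 3, 2, 1, 0, 4, 3, 2, 5],
  [1, 2, 3, 4, 5, 6, 7, 3, 2, 1, 4, 3, 2, 5, 4, 3, 8, 7, 3, 2, 1, 0, 4, 3, 5, 4],
  [1, 2, 3, 4, 5, 6, 7, 3, 2, 1, 4, 3, 2, 5, 4, 7, 8, 7, 3, 2, 1, 4, 3, 5, 7, 8],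
  [1, 2, 3, 4, 5, 6, 7, 3, 2, 1, 4, 3, 2, 5, 7, 3, 8, 7, 3, 2, 1, 0, 4, 3, 2, 1],
  [1, 2, 3, 4, 5, 6, 7, 3, 2, 1, 4, 5, 8, 7, 3, 2, 1, 4, 3, 2, 5, 4, 7, 3, 8, 7],
  [1, 2, 3, 4, 5, 6, 7, 3, 2, 1, 4, 5, 8, 7, 3, 2, 1, 4, 3, 2, 7, 3, 4, 5, 6, 8],
  [1, 2, 3, 4, 5, 6, 7, 3, 2, 1, 4, 3, 5, 7, 8, 7, 3, 2, 1, 4, 3, 2, 5, 4, 7, 3, 2, 4],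
  [1, 2, 3, 4, 5, 6, 7, 3, 2, 1, 4, 3, 5, 8, 7, 3, 2, 1, 4, 3, 2, 5, 4, 3, 7, 3, 2, 4],
  [1, 2, 3, 4, 5, 6, 7, 3, 2, 1, 4, 5, 8, 7, 3, 2, 1, 0, 4, 3, 2, 5, 4, 6, 7, 3, 8, 7],
  [1, 2, 3, 4, 5, 6, 7, 3, 2, 1, 4, 3, 5, 7, 8, 7, 3, 2, 1, 4, 3, 2, 5, 4, 7, 3, 2, 4, 8],
  [1, 2, 3, 4, 5, 6, 7, 3, 2, 1, 4, 3, 5, 8, 7, 3, 2, 1, 4, 3, 2, 5, 4, 3, 7, 3, 2, 4, 8],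
  [1, 2, 3, 4, 5, 6, 7, 3, 2, 1, 4, 3, 2, 5, 4, 3, 8, 7, 3, 2, 1, 0, 4, 3, 2, 1, 7, 3, 8, 7],
  [1, 2, 3, 4, 5, 6, 7, 3, 2, 1, 4, 3, 2, 5, 4, 3, 8, 7, 3, 2, 1, 0, 4, 3, 2, 5, 7, 3, 8, 7],
  [1, 2, 3, 4, 5, 6, 7, 3, 2, 1, 4, 3, 2, 5, 4, 3, 8, 7, 3, 2, 1, 0, 4, 3, 5, 4, 7, 3, 8, 7],
  [1, 2, 3, 4, 5, 6, 7, 3, 2, 1, 4, 3, 2, 5, 4, 7, 8, 7, 3, 2, 1, 4, 3, 2, 5, 4, 7, 3, 2, 4],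
  [1, 2, 3, 4, 5, 6, 7, 3, 2, 1, 4, 3, 2, 5, 4, 8, 7, 3, 2, 1, 0, 4, 3, 2, 5, 4, 3, 7, 3, 2],
  [1, 2, 3, 4, 5, 6, 7, 3, 2, 1, 4, 3, 2, 5, 4, 8, 7, 3, 2, 1, 0, 4, 3, 2, 5, 4, 3, 7, 3, 4],
  [1, 2, 3, 4, 5, 6, 7, 3, 2, 1, 4, 3, 2, 5, 7, 3, 8, 7, 3, 2, 1, 0, 4, 3, 2, 1, 7, 3, 8, 7],
  [1, 2, 3, 4, 5, 6, 7, 3, 2, 1, 4, 3, 2, 5, 8, 7, 3, 2, 1, 4, 3, 2, 5, 4, 7, 3, 2, 4, 5, 6],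
  [1, 2, 3, 4, 5, 6, 7, 3, 2, 1, 4, 3, 2, 5, 4, 7, 8, 7, 3, 2, 1, 4, 3, 2, 5, 4, 7, 3, 2, 4, 8],
  [1, 2, 3, 4, 5, 6, 7, 3, 2, 1, 4, 3, 2, 5, 4, 8, 7, 3, 2, 1, 0, 4, 3, 2, 5, 4, 3, 7, 3, 2, 8],
  [1, 2, 3, 4, 5, 6, 7, 3, 2, 1, 4, 3, 2, 5, 4, 8, 7, 3, 2, 1, 0, 4, 3, 2, 5, 4, 3, 7, 3, 4, 8],
  [1, 2, 3, 4, 5, 6, 7, 3, 2, 1, 4, 3, 2, 5, 8, 7, 3, 2, 1, 0, 4, 3, 2, 5, 7, 3, 4, 8, 7, 3, 2],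
  [1, 2, 3, 4, 5, 6, 7, 3, 2, 1, 4, 3, 2, 5, 8, 7, 3, 2, 1, 4, 3, 2, 5, 4, 7, 3, 2, 4, 5, 6, 8],
  [1, 2, 3, 4, 5, 6, 7, 3, 2, 1, 4, 3, 2, 5, 8, 7, 3, 2, 1, 4, 3, 2, 5, 6, 7, 3, 4, 8, 7, 3, 2],
  [1, 2, 3, 4, 5, 6, 7, 3, 2, 1, 4, 3, 2, 5, 8, 7, 3, 2, 1, 4, 3, 2, 5, 7, 3, 4, 5, 8, 7, 3, 2],
  [1, 2, 3, 4, 5, 6, 7, 3, 2, 1, 4, 3, 2, 5, 8, 7, 3, 2, 1, 4, 3, 2, 5, 7, 3, 4, 8, 7, 3, 2, 1],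
  [1, 2, 3, 4, 5, 6, 7, 3, 2, 1, 4, 5, 8, 7, 3, 2, 1, 4, 3, 2, 5, 4, 7, 3, 2, 1, 4, 8, 7, 3, 2],
  [1, 2, 3, 4, 5, 6, 7, 3, 2, 1, 4, 3, 2, 5, 4, 7, 8, 7, 3, 2, 1, 4, 3, 2, 5, 7, 3, 4, 8, 7, 3, 2, 1]]

/-- the points fixed by the third automorphism -/
def f2W : List (List ℕ) :=
  [[1, 0, 2, 1],
  [1, 0, 2, 1, 3],
  [1, 0, 2, 1, 3, 2],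
  [1, 0, 2, 1, 3, 4],
  [1, 0, 2, 3, 4, 5],
  [1, 2, 3, 4, 5, 6],
  [1, 0, 2, 1, 3, 2, 4],
  [1, 0, 2, 1, 3, 2, 4, 3],
  [1, 0, 2, 1, 3, 2, 7, 3, 8, 7],
  [1, 0, 2, 1, 3, 4, 7, 3, 8, 7],
  [1, 0, 2, 3, 4, 5, 7, 3, 2, 4, 3, 7],
  [1, 2, 3, 4, 5, 6, 7, 3, 2, 4, 3, 7],
  [1, 0, 2, 3, 4, 5, 7, 3, 2, 4, 3, 7, 8],
  [1, 2, 3, 4, 5, 6, 7, 3, 2, 4, 3, 7, 8],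
  [1, 2, 3, 4, 5, 6, 7, 3, 2, 1, 4, 3, 5, 7],
  [1, 2, 3, 4, 5, 6, 7, 3, 2, 1, 4, 3, 2, 5, 7],
  [1, 2, 3, 4, 5, 6, 7, 3, 2, 1, 4, 3, 5, 4, 7],
  [1, 2, 3, 4, 5, 6, 7, 3, 2, 1, 4, 3, 5, 7, 8],
  [1, 2, 3, 4, 5, 6, 7, 3, 2, 1, 4, 3, 2, 5, 4, 7],
  [1, 2, 3, 4, 5, 6, 7, 3, 2, 1, 4, 3, 2, 5, 7, 3],
  [1, 2, 3, 4, 5, 6, 7, 3, 2, 1, 4, 3, 2, 5, 7, 8],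
  [1, 2, 3, 4, 5, 6, 7, 3, 2, 1, 4, 3, 5, 4, 7, 3],
  [1, 2, 3, 4, 5, 6, 7, 3, 2, 1, 4, 3, 5, 4, 7, 8],
  [1, 0, 2, 3, 4, 5, 7, 3, 2, 4, 8, 7, 3, 2, 1, 4, 5],
  [1, 2, 3, 4, 5, 6, 7, 3, 2, 1, 4, 3, 2, 5, 4, 7, 8],
  [1, 2, 3, 4, 5, 6, 7, 3, 2, 1, 4, 3, 2, 5, 7, 3, 8],
  [1, 2, 3, 4, 5, 6, 7, 3, 2, 1, 4, 3, 5, 4, 7, 3, 8],
  [1, 0, 2, 3, 4, 5, 7, 3, 2, 4, 8, 7, 3, 2, 1, 0, 4, 5, 6],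
  [1, 2, 3, 4, 5, 6, 7, 3, 2, 1, 4, 3, 5, 7, 8, 7, 3, 2, 4, 3, 7],
  [1, 2, 3, 4, 5, 6, 7, 3, 2, 1, 4, 3, 2, 5, 7, 8, 7, 3, 2, 4, 3, 7],
  [1, 2, 3, 4, 5, 6, 7, 3, 2, 1, 4, 3, 5, 4, 7, 8, 7, 3, 2, 4, 3, 7],
  [1, 2, 3, 4, 5, 6, 7, 3, 2, 1, 4, 3, 5, 7, 8, 7, 3, 2, 4, 3, 7, 8],
  [1, 2, 3, 4, 5, 6, 7, 3, 2, 1, 4, 3, 2, 5, 4, 7, 8, 7, 3, 2, 4, 3, 7],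
  [1, 2, 3, 4, 5, 6, 7, 3, 2, 1, 4, 3, 2, 5, 7, 3, 8, 7, 3, 2, 4, 3, 7],
  [1, 2, 3, 4, 5, 6, 7, 3, 2, 1, 4, 3, 2, 5, 7, 8, 7, 3, 2, 4, 3, 7, 8],
  [1, 2, 3, 4, 5, 6, 7, 3, 2, 1, 4, 3, 5, 4, 7, 3, 8, 7, 3, 2, 4, 3, 7],
  [1, 2, 3, 4, 5, 6, 7, 3, 2, 1, 4, 3, 5, 4, 7, 8, 7, 3, 2, 4, 3, 7, 8],
  [1, 2, 3, 4, 5, 6, 7, 3, 2, 1, 4, 3, 2, 5, 4, 3, 8, 7, 3, 2, 1, 0, 4, 5],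
  [1, 2, 3, 4, 5, 6, 7, 3, 2, 1, 4, 3, 2, 5, 4, 3, 8, 7, 3, 2, 1, 4, 5, 6],
  [1, 2, 3, 4, 5, 6, 7, 3, 2, 1, 4, 3, 2, 5, 4, 7, 8, 7, 3, 2, 4, 3, 7, 8],
  [1, 2, 3, 4, 5, 6, 7, 3, 2, 1, 4, 3, 2, 5, 7, 3, 8, 7, 3, 2, 4, 3, 7, 8],
  [1, 2, 3, 4, 5, 6, 7, 3, 2, 1, 4, 3, 5, 4, 7, 3, 8, 7, 3, 2, 4, 3, 7, 8],
  [1, 2, 3, 4, 5, 6, 7, 3, 2, 1, 4, 3, 2, 5, 4, 3, 8, 7, 3, 2, 1, 0, 4, 3, 5],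
  [1, 2, 3, 4, 5, 6, 7, 3, 2, 1, 4, 3, 2, 5, 4, 3, 8, 7, 3, 2, 1, 4, 3, 5, 6],
  [1, 2, 3, 4, 5, 6, 7, 3, 2, 1, 4, 3, 2, 5, 4, 3, 8, 7, 3, 2, 1, 0, 4, 3, 2, 1],
  [1, 2, 3, 4, 5, 6, 7, 3, 2, 1, 4, 3, 2, 5, 4, 3, 8, 7, 3, 2, 1, 0, 4, 3, 2, 5],
  [1, 2, 3, 4, 5, 6, 7, 3, 2, 1, 4, 3, 2, 5, 4, 3, 8, 7, 3, 2, 1, 0, 4, 3, 5, 4],
  [1, 2, 3, 4, 5, 6, 7, 3, 2, 1, 4, 3, 2, 5, 7, 3, 8, 7, 3, 2, 1, 0, 4, 3, 2, 1],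
  [1, 2, 3, 4, 5, 6, 7, 3, 2, 1, 4, 3, 2, 5, 4, 8, 7, 3, 2, 1, 0, 4, 3, 2, 5, 4, 3, 7],
  [1, 2, 3, 4, 5, 6, 7, 3, 2, 1, 4, 3, 2, 5, 4, 8, 7, 3, 2, 1, 4, 3, 2, 5, 4, 3, 6, 7],
  [1, 2, 3, 4, 5, 6, 7, 3, 2, 1, 4, 3, 2, 5, 4, 8, 7, 3, 2, 1, 0, 4, 3, 2, 5, 4, 3, 7, 3],
  [1, 2, 3, 4, 5, 6, 7, 3, 2, 1, 4, 3, 2, 5, 4, 8, 7, 3, 2, 1, 0, 4, 3, 2, 5, 4, 3, 7, 8],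
  [1, 2, 3, 4, 5, 6, 7, 3, 2, 1, 4, 3, 2, 5, 4, 8, 7, 3, 2, 1, 4, 3, 2, 5, 4, 3, 6, 7, 3],
  [1, 2, 3, 4, 5, 6, 7, 3, 2, 1, 4, 3, 2, 5, 4, 8, 7, 3, 2, 1, 4, 3, 2, 5, 4, 3, 6, 7, 8],
  [1, 2, 3, 4, 5, 6, 7, 3, 2, 1, 4, 3, 2, 5, 4, 3, 8, 7, 3, 2, 1, 0, 4, 3, 2, 1, 7, 3, 8, 7],
  [1, 2, 3, 4, 5, 6, 7, 3, 2, 1, 4, 3, 2, 5, 4, 8, 7, 3, 2, 1, 0, 4, 3, 2, 5, 4, 3, 7, 3, 2],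
  [1, 2, 3, 4, 5, 6, 7, 3, 2, 1, 4, 3, 2, 5, 4, 8, 7, 3, 2, 1, 0, 4, 3, 2, 5, 4, 3, 7, 3, 4],
  [1, 2, 3, 4, 5, 6, 7, 3, 2, 1, 4, 3, 2, 5, 4, 8, 7, 3, 2, 1, 0, 4, 3, 2, 5, 4, 3, 7, 3, 8],
  [1, 2, 3, 4, 5, 6, 7, 3, 2, 1, 4, 3, 2, 5, 4, 8, 7, 3, 2, 1, 4, 3, 2, 5, 4, 3, 6, 7, 3, 8],
  [1, 2, 3, 4, 5, 6, 7, 3, 2, 1, 4, 3, 2, 5, 7, 3, 8, 7, 3, 2, 1, 0, 4, 3, 2, 1, 7, 3, 8, 7],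
  [1, 2, 3, 4, 5, 6, 7, 3, 2, 1, 4, 3, 2, 5, 4, 3, 8, 7, 3, 2, 1, 0, 4, 3, 2, 1, 7, 3, 2, 8, 7],
  [1, 2, 3, 4, 5, 6, 7, 3, 2, 1, 4, 3, 2, 5, 4, 3, 8, 7, 3, 2, 1, 0, 4, 3, 2, 1, 7, 3, 4, 8, 7],
  [1, 2, 3, 4, 5, 6, 7, 3, 2, 1, 4, 3, 2, 5, 4, 8, 7, 3, 2, 1, 0, 4, 3, 2, 5, 4, 3, 7, 3, 2, 8],
  [1, 2, 3, 4, 5, 6, 7, 3, 2, 1, 4, 3, 2, 5, 4, 8, 7, 3, 2, 1, 0, 4, 3, 2, 5, 4, 3, 7, 3, 4, 8],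
  [1, 2, 3, 4, 5, 6, 7, 3, 2, 1, 4, 3, 2, 5, 8, 7, 3, 2, 1, 0, 4, 3, 2, 5, 6, 7, 3, 4, 5, 8, 7],
  [1, 2, 3, 4, 5, 6, 7, 3, 2, 1, 4, 3, 2, 5, 8, 7, 3, 2, 1, 4, 3, 2, 5, 6, 7, 3, 4, 5, 6, 8, 7],
  [1, 2, 3, 4, 5, 6, 7, 3, 2, 1, 4, 3, 2, 5, 8, 7, 3, 2, 1, 4, 3, 2, 5, 7, 3, 4, 8, 7, 3, 2, 1],
  [1, 2, 3, 4, 5, 6, 7, 3, 2, 1, 4, 3, 2, 5, 4, 3, 8, 7, 3, 2, 1, 0, 4, 3, 2, 1, 7, 3, 2, 8, 7, 3],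
  [1, 2, 3, 4, 5, 6, 7, 3, 2, 1, 4, 3, 2, 5, 4, 3, 8, 7, 3, 2, 1, 0, 4, 3, 2, 1, 7, 3, 4, 8, 7, 3],
  [1, 2, 3, 4, 5, 6, 7, 3, 2, 1, 4, 3, 2, 5, 4, 8, 7, 3, 2, 1, 4, 3, 2, 5, 7, 3, 4, 8, 7, 3, 2, 1],
  [1, 2, 3, 4, 5, 6, 7, 3, 2, 1, 4, 3, 2, 5, 4, 8, 7, 3, 2, 1, 4, 3, 5, 4, 7, 3, 2, 8, 7, 3, 4, 5],
  [1, 2, 3, 4, 5, 6, 7, 3, 2, 1, 4, 3, 2, 5, 4, 7, 8, 7, 3, 2, 1, 4, 3, 2, 5, 7, 3, 4, 8, 7, 3, 2, 1]]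

/-- the base of 22 -/
def b0W : List (List ℕ) :=
  [[],
  [1, 0, 2, 1, 3, 2],
  [1, 0, 2, 1, 3, 4],
  [1, 0, 2, 1, 3, 7],
  [1, 0, 2, 1, 3, 2, 4, 7],
  [1, 2, 3, 4, 7, 3, 2, 1],
  [1, 0, 2, 1, 3, 2, 4, 3, 5, 4, 6, 5],
  [1, 0, 2, 1, 3, 4, 5, 6, 7, 3, 4, 5],
  [1, 2, 3, 4, 5, 6, 7, 3, 2, 1, 4, 3, 2, 5],
  [1, 2, 3, 4, 5, 6, 7, 3, 2, 1, 4, 3, 5, 4],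
  [1, 2, 3, 4, 5, 6, 7, 3, 2, 1, 4, 3, 5, 7],
  [1, 2, 3, 4, 5, 6, 7, 3, 2, 1, 4, 3, 2, 5, 4, 7],
  [1, 2, 3, 4, 5, 7, 3, 2, 1, 4, 3, 2, 7, 3, 4, 5],
  [1, 0, 2, 3, 4, 5, 6, 7, 3, 2, 4, 3, 5, 4, 7, 3, 2, 1],
  [1, 2, 3, 4, 5, 6, 7, 3, 2, 1, 4, 3, 2, 5, 8, 7, 3, 2, 4, 3, 7, 8],
  [1, 2, 3, 4, 5, 6, 7, 3, 2, 1, 4, 3, 5, 4, 8, 7, 3, 2, 4, 3, 7, 8],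
  [1, 2, 3, 4, 5, 6, 7, 3, 2, 1, 4, 3, 5, 7, 8, 7, 3, 2, 4, 3, 7, 8],
  [1, 2, 3, 4, 5, 6, 7, 3, 2, 1, 4, 3, 2, 5, 4, 7, 8, 7, 3, 2, 4, 3, 7, 8],
  [1, 2, 3, 4, 5, 6, 7, 3, 2, 1, 4, 3, 2, 5, 4, 3, 8, 7, 3, 2, 1, 0, 4, 3, 2, 1, 7, 3, 2, 8],
  [1, 2, 3, 4, 5, 6, 7, 3, 2, 1, 4, 3, 2, 5, 4, 3, 8, 7, 3, 2, 1, 0, 4, 3, 2, 1, 7, 3, 4, 8],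
  [1, 2, 3, 4, 5, 6, 7, 3, 2, 1, 4, 3, 2, 5, 4, 3, 8, 7, 3, 2, 1, 0, 4, 3, 2, 1, 7, 3, 8, 7],
  [1, 2, 3, 4, 5, 6, 7, 3, 2, 1, 4, 3, 2, 5, 7, 3, 8, 7, 3, 2, 1, 0, 4, 3, 2, 1, 7, 3, 8, 7]]

/-- paths to the fixed points of the first -/
def bigPaths : List (List ℕ) :=
  [[],
  [8, 0, 1, 8],
  [8, 0, 5, 8],
  [8, 5, 7, 8, 3],
  [8],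
  [8, 0, 1],
  [8, 0, 5],
  [8, 3, 2, 5, 4],
  [8, 0],
  [8, 7],
  [8, 1],
  [8, 4],
  [8, 5],
  [2, 0, 8, 1],
  [2, 3, 4, 8, 2],
  [2, 3, 8, 1, 3, 2],
  [8, 0, 7],
  [8, 0, 4],
  [8, 5, 7],
  [2, 3, 1, 8, 3, 2],
  [8, 0, 7, 8],
  [8, 0, 4, 8],
  [2, 0, 8, 7],
  [8, 5, 7, 8],
  [2, 0, 3, 4, 8, 3],
  [8, 3, 7, 8, 5],
  [8, 1, 5],
  [2, 0, 8],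
  [2, 3, 4, 8, 1, 2],
  [2, 8, 3, 2, 5, 6],
  [8, 1, 5, 8],
  [2, 8, 2],
  [2, 0],
  [2, 3, 4, 8, 6],
  [8, 3, 1, 8, 2],
  [8, 3, 2, 5, 8],
  [8, 1, 3, 8, 7, 6],
  [8, 2, 7, 8],
  [8, 2],
  [2],
  [2, 3, 4, 8, 0, 6],
  [2, 3, 1, 8, 2, 6],
  [8, 3, 1, 8, 2, 7],
  [8, 3, 2, 5],
  [2, 3, 8, 3, 5, 8],
  [8, 2, 7],
  [2, 8],
  [8, 3, 5, 8, 7],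
  [8, 3, 5, 7, 8],
  [2, 0, 8, 1, 3, 8, 0],
  [8, 3, 2, 5, 7],
  [2, 3, 8, 3, 5],
  [2, 8, 7],
  [8, 1, 2, 8],
  [2, 3, 1, 8, 4, 3],
  [8, 3, 5, 8],
  [8, 3, 5, 7],
  [2, 0, 8, 1, 3, 8],
  [2, 3, 8, 3, 5, 7],
  [8, 1, 3, 2, 6, 8],
  [8, 1, 2],
  [2, 0, 8, 6, 5, 4],
  [8, 2, 5, 8, 6],
  [8, 3, 5, 4, 8],
  [8, 3, 5],
  [2, 0, 8, 1, 3],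
  [8, 1, 3, 2, 6],
  [2, 8, 5],
  [2, 8, 1],
  [8, 2, 5, 8],
  [8, 3, 4, 3, 2],
  [2, 3, 8, 1, 3, 8],
  [8, 3, 5, 4],
  [8, 0, 3, 5],
  [8, 1, 3, 4, 6, 8],
  [2, 0, 3, 4, 8, 6],
  [2, 8, 5, 6, 5],
  [8, 3, 7, 8],
  [8, 2, 5],
  [2, 3, 1, 4, 5],
  [2, 3, 8, 1, 3],
  [8, 0, 3, 5, 4],
  [8, 1, 3, 4, 6],
  [8, 4, 6, 8, 2],
  [2, 0, 3, 8, 4, 5],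
  [8, 3, 7],
  [2, 8, 3, 2, 8, 5],
  [8, 2, 3, 8, 5],
  [2, 0, 8, 1, 3, 4],
  [2, 8, 3, 5, 6],
  [2, 8, 2, 6, 5, 8],
  [2, 8, 3, 5, 8, 0],
  [2, 0, 8, 6, 5],
  [8, 3],
  [8, 0, 3, 7],
  [2, 0, 3, 2],
  [2, 3, 4, 5, 8],
  [8, 2, 3, 5, 6],
  [8, 3, 4, 5, 4],
  [2, 8, 2, 6, 5],
  [2, 8, 3, 5, 8],
  [8, 4, 3, 2],
  [8, 0, 3],
  [2, 3, 4, 5],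
  [8, 1, 3, 6],
  [2, 0, 3, 1, 8, 2],
  [2, 3, 1, 8, 6],
  [8, 2, 3, 5, 6, 8],
  [8, 2, 3, 5, 8],
  [8, 3, 7, 6, 5],
  [8, 3, 4, 8, 5, 6],
  [2, 8, 3, 5],
  [2, 8, 6, 5, 4],
  [2, 0, 3, 4, 5],
  [8, 0, 1, 3, 6],
  [8, 3, 2],
  [2, 0, 8, 1, 6, 5],
  [2, 3, 1, 8, 0, 6],
  [8, 3, 5, 8, 4],
  [2, 3, 1, 8, 1, 6],
  [8, 2, 3, 5],
  [8, 2, 3, 5, 4, 8],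
  [8, 2, 6, 8, 4],
  [8, 1, 2, 3],
  [8, 1, 3, 2, 4],
  [2, 3, 1, 4],
  [8, 3, 2, 4, 5],
  [8, 3, 2, 7],
  [8, 0, 5, 8, 6],
  [2, 3, 8, 3],
  [8, 4, 3, 1, 2],
  [2, 8, 1, 3, 8, 7],
  [2, 8, 3, 5, 4, 8],
  [8, 3, 1, 7],
  [2, 8, 1, 3],
  [8, 2, 3, 5, 4],
  [8, 0, 1, 3, 4],
  [2, 0, 3, 4, 8, 7],
  [2, 8, 2, 6, 8, 5],
  [8, 2, 3, 8],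
  [2, 3, 8, 5, 4, 3],
  [2, 3, 8, 3, 7],
  [8, 0, 5, 8, 6, 7],
  [2, 0, 3, 4, 8],
  [2, 8, 3],
  [8, 3, 1],
  [2, 8, 1, 3, 8],
  [2, 8, 3, 5, 4],
  [8, 0, 3, 1, 7],
  [2, 3, 4, 8, 5],
  [2, 0, 3, 1, 2],
  [8, 4, 3, 6],
  [8, 1, 3, 4],
  [8, 3, 4, 3],
  [2, 3, 1, 8, 1, 4],
  [8, 1, 2, 8, 6],
  [2, 0, 3, 4],
  [8, 2, 3],
  [2, 3, 8, 3, 7, 8],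
  [2, 0, 3, 4, 8, 0],
  [8, 2, 5, 6],
  [2, 8, 3, 7],
  [8, 0, 3, 1],
  [8, 3, 1, 8],
  [8, 0, 4, 3, 6],
  [8, 4, 3, 8, 7],
  [8, 1, 3, 1, 4],
  [8, 3, 4, 3, 1],
  [8, 0, 1, 3, 1],
  [8, 0, 3, 4, 3],
  [2, 8, 2, 6, 8, 1],
  [2, 3, 8, 1, 2, 8],
  [8, 1, 6, 8],
  [8, 4, 3, 2, 6, 8],
  [2, 3, 4],
  [2, 3, 8, 6],
  [8, 2, 5, 6, 7],
  [2, 8, 3, 7, 8],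
  [2, 3, 4, 8, 0],
  [2, 8, 5, 6],
  [2, 3, 4, 8, 1],
  [2, 8, 3, 2, 8],
  [8, 0, 1, 3],
  [8, 1, 3, 8],
  [8, 3, 1, 8, 7],
  [8, 3, 4, 8, 7],
  [8, 4, 3, 8],
  [8, 3, 4, 7, 8],
  [2, 3, 1, 8, 0, 4],
  [8, 1, 3, 1],
  [8, 4, 3, 1],
  [2, 8, 3, 1, 5],
  [2, 0, 3, 2, 4],
  [8, 3, 4, 8, 2, 3],
  [2, 3, 8, 1, 2],
  [8, 1, 6],
  [8, 4, 3, 2, 6],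
  [2, 3, 4, 8],
  [2, 0, 3, 8, 4],
  [8, 2, 5, 6, 7, 8],
  [8, 2, 3, 1, 8],
  [2, 3, 1, 8, 0, 3],
  [2, 8, 5, 6, 8],
  [8, 1, 3, 4, 5],
  [2, 3, 8, 5, 6],
  [2, 8, 3, 2],
  [8, 1, 3],
  [8, 4, 3],
  [8, 1, 3, 8, 7],
  [8, 3, 4, 8],
  [2, 3, 8, 4, 3],
  [8, 3, 4, 7],
  [8, 3, 4, 8, 5, 7],
  [2, 3, 1, 8, 4],
  [8, 0, 4, 3, 1],
  [2, 3, 8, 4, 5],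
  [2, 8, 3, 1, 2],
  [2, 3, 1, 8, 5],
  [8, 0, 1, 6],
  [8, 1, 6, 7],
  [2, 3, 8, 5, 4, 7],
  [2, 0, 3, 1, 8, 6],
  [2, 3, 1, 8, 3],
  [2, 8, 3, 2, 5],
  [2, 3, 8, 2, 5, 8],
  [8, 3, 5, 8, 2],
  [2, 3, 1, 8, 4, 7],
  [8, 2, 3, 1],
  [2, 0, 3, 1, 8, 3],
  [8, 6],
  [2, 8, 5, 6, 8, 0],
  [2, 3, 4, 5, 6],
  [8, 2, 3, 4, 8],
  [2, 3, 8, 2],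
  [8, 2, 3, 6],
  [2, 0, 8, 1, 3, 6],
  [2, 3, 1, 8, 7],
  [8, 0, 4, 3],
  [2, 8, 6, 5, 8, 7],
  [8, 0, 3, 4, 7],
  [2, 3, 8, 4, 3, 8],
  [8, 3, 4],
  [2, 0, 8, 1, 6, 8],
  [2, 8, 1, 3, 1],
  [8, 3, 4, 8, 5],
  [8, 3, 2, 4],
  [8, 2, 6, 8, 1],
  [2, 0, 8, 6],
  [8, 7, 6, 8, 5],
  [2, 3, 8, 2, 4],
  [2, 0, 8, 3, 1],
  [2, 3, 8, 5, 4],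
  [2, 3, 8, 2, 5],
  [8, 1, 2, 3, 2],
  [2, 8, 3, 4, 8],
  [2, 8, 1, 3, 8, 2],
  [2, 8, 3, 1],
  [2, 3, 8, 0, 4],
  [8, 0, 6],
  [2, 3, 1, 8, 2, 4],
  [8, 4, 3, 6, 5],
  [8, 6, 7],
  [2, 0, 3, 4, 5, 6],
  [8, 2, 3, 4],
  [2, 8, 3, 6],
  [8, 3, 2, 4, 3],
  [8, 4, 3, 1, 6],
  [2, 3, 1, 8, 0, 7],
  [2, 3, 1, 8],
  [8, 0, 3, 4],
  [2, 8, 6, 5, 8],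
  [2, 0, 8, 1, 6],
  [8, 5, 7, 8, 6],
  [8, 4, 3, 8, 5],
  [2, 8, 2, 6],
  [8, 3, 4, 5],
  [8, 3, 1, 7, 6],
  [2, 0, 3, 8],
  [8, 6, 7, 8, 5],
  [2, 3, 8, 2, 4, 8],
  [8, 4, 6, 8, 1],
  [2, 3, 8, 5, 4, 8],
  [2, 3, 1, 8, 1],
  [8, 3, 1, 8, 2, 3],
  [2, 8, 3, 4],
  [2, 8, 3, 1, 8],
  [8, 2, 3, 8, 5, 6],
  [8, 0, 6, 8],
  [8, 3, 4, 8, 2],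
  [2, 3, 8, 4],
  [2, 0, 8, 3],
  [2, 3, 8, 1, 5, 4],
  [8, 4, 3, 6, 5, 8],
  [8, 6, 7, 8],
  [2, 3, 8, 0, 1],
  [2, 8, 3, 6, 8],
  [2, 3, 8, 4, 5, 4],
  [8, 1, 6, 8, 2, 0],
  [2, 3, 1, 8, 0],
  [2, 8, 2, 6, 8],
  [2, 3, 1],
  [2, 8, 6, 5],
  [2, 0, 3, 8, 1],
  [8, 3, 4, 5, 7],
  [8, 0, 3, 2, 5],
  [8, 3, 7, 6],
  [8, 0, 3, 4, 5],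
  [2, 0, 3],
  [2, 3, 8, 1],
  [2, 8, 2, 6, 8, 4],
  [2, 3, 1, 4, 5, 6],
  [8, 0, 6, 8, 7],
  [2, 3, 8, 0, 5, 8],
  [8, 7, 6, 5],
  [8, 0, 3, 2],
  [2, 8, 1, 3, 2],
  [2, 3, 8, 5, 7, 8],
  [8, 7, 6, 8],
  [2, 8, 6, 5, 7],
  [8, 1, 6, 8, 2],
  [8, 2, 6, 8],
  [2, 0, 3, 1, 8, 0],
  [2, 3, 8, 0, 7, 8],
  [2, 0, 3, 1],
  [2, 8, 6, 7, 8],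
  [8, 4, 6, 8],
  [8, 1, 6, 8, 4],
  [8, 1, 3, 2],
  [2, 0, 3, 1, 8, 1],
  [8, 0, 3, 4, 5, 7],
  [2, 3, 8, 0],
  [2, 3],
  [8, 2, 5, 8, 3],
  [8, 0, 4, 6, 5],
  [8, 6, 7, 6, 5],
  [2, 0, 8, 3, 6],
  [2, 3, 8, 0, 5],
  [8, 7, 6],
  [2, 3, 8, 5, 7],
  [8, 0, 4, 3, 2],
  [8, 2, 6],
  [2, 0, 3, 1, 8],
  [2, 8, 6, 7],
  [2, 3, 8, 0, 7],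
  [8, 4, 6],
  [2, 0, 8, 3, 4],
  [2, 3, 8],
  [8, 2, 3, 4, 5],
  [8, 4, 6, 5],
  [2, 3, 8, 1, 5, 8],
  [8, 6, 7, 6],
  [2, 3, 8, 5],
  [8, 2, 6, 7],
  [2, 8, 6],
  [8, 4, 6, 7],
  [8, 0, 4, 6],
  [2, 3, 8, 7],
  [2, 3, 1, 8, 2],
  [2, 3, 8, 0, 1, 5],
  [2, 3, 8, 1, 5]]

end Cfsg.Agent.H39.Fi22Invol.Data
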