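import Cfsg.Agent.H39.Fi22Invol.Chain

/-!
Elements normalising the base.
-/

set_option autoImplicit false
set_option maxRecDepth 100000

namespace Cfsg.Agent.H39.Fi22Invol.Data

/-- elements normalising the base -/
def gWords : List (List (List ℕ)) :=
  [[],
  [[1, 2, 3, 4, 5, 7, 3, 2, 1, 4, 3, 2, 7, 3, 4, 5], [1, 2, 3, 4, 7, 3, 2, 1, 8, 7], [1, 2, 3, 4, 7, 3, 2, 1, 8, 7, 3, 2, 4, 3], [1, 0, 2, 1, 3], [1, 0, 2, 1, 3, 2, 4]],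
  [[1, 0, 2, 1, 3, 2, 4, 3, 5, 4, 6, 5], [1, 2, 3, 4, 5, 6, 7, 3, 2, 1, 4, 5], [1, 0, 2, 1, 3, 2, 7, 3, 8, 7], [1, 2, 3, 4, 5, 7, 3, 2, 1, 8, 7], [1, 2, 3, 4, 5, 6, 7, 3, 2, 1, 4, 3, 8, 7, 3, 2, 4, 3, 5, 7], [], [1, 2, 3, 4, 5, 6, 7, 3, 2, 1, 4, 5, 8, 7, 3, 2, 4, 3, 5, 4, 7, 8], [1, 0, 2, 1, 3], [1, 2, 3, 4, 5, 6, 7, 3, 2, 1, 4, 3, 7, 8, 7, 3, 2, 4]],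
  [[1, 0, 2, 1, 3, 2, 4, 3, 5, 4, 6, 5], [1, 0, 2, 1], [1, 0, 2, 1, 3, 4, 7, 3], [1, 2, 3, 4, 7, 3, 2, 1, 8, 7], [1, 0, 2, 1, 3, 2, 4, 3, 5, 4], [1, 2, 3, 4, 5, 7, 3, 2, 1, 4, 3, 2, 8, 7, 3, 2, 4, 3, 5], [], [1, 0, 2, 1, 3, 4, 5, 6, 7, 3, 4, 5], [1, 2, 3, 4, 5, 6, 7, 3, 2, 1, 4, 3, 2, 5, 4, 8, 7, 3, 2, 4, 5]],
  [[1, 0, 2, 1, 3, 2, 4, 3, 5, 4, 6, 5], [1, 0, 2, 1], [1, 2, 3, 4, 5, 6, 7, 3, 2, 1, 4, 3, 5, 4, 7, 3], [1, 2, 3, 4, 5, 6, 7, 3, 2, 1, 4, 3, 5, 4, 7, 3, 8], [1, 0, 2, 1, 3, 4, 5, 6, 7, 3], [1, 2, 3, 4, 5, 6, 7, 3, 2, 1, 4, 3, 2, 5, 4, 3, 8, 7, 3, 2, 4, 3, 5, 6], [1, 0, 2, 1, 3, 2, 7, 3, 8], [1, 2, 3, 4, 5, 6, 7, 3, 2, 1, 4, 5, 8, 7, 3,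 2, 4, 3, 5, 6], [1, 2, 3, 4, 5, 6, 7, 3, 2, 1, 4, 8, 7, 3, 2]],
  [[1, 0, 2, 1], [1, 0, 2, 1, 3, 4, 7, 3], [1, 2, 3, 4, 5, 6, 7, 3, 2, 1, 4, 5, 8], [1, 2, 3, 4, 5, 6, 7, 3, 2, 1, 4], [1, 2, 3, 4, 5, 6, 7, 3, 2, 1, 4, 3, 2, 8, 7, 3, 2, 4, 3], [1, 0, 2, 1, 3, 2, 4, 3, 5], [1, 0, 2, 1, 3, 4, 5, 6, 7, 3, 4, 5, 8, 7], [1, 2, 3, 4, 5, 6, 7, 3, 2, 1, 4, 3, 2, 5, 4, 8, 7, 3, 2, 4, 3, 5, 4, 6, 7, 3, 8, 7]],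
  [[1, 0, 2, 1, 3, 2, 4, 3, 5, 4, 6, 5], [1, 2, 3, 4, 5, 7, 3, 2, 1, 4, 3, 2, 7, 3, 4, 5], [1, 2, 3, 4, 5, 6, 7, 3, 2, 1, 4, 3, 2, 7, 8, 7, 3, 2, 4, 3], [1, 2, 3, 4, 7, 3, 2, 1], [1, 2, 3, 4, 7, 3, 2, 1, 8, 7, 3, 2, 4, 3, 5], [1, 0, 2, 1, 3], [1, 2, 3, 4, 5, 6, 7, 3, 2, 1, 4, 3, 2, 5, 4, 3, 8, 7, 3, 2, 4, 5]],
  [[1, 0, 2, 1], [1, 0, 2, 1, 3, 4, 7, 3], [1, 2, 3, 4, 5, 6, 7, 3, 2, 1, 4, 3, 5, 4, 7, 3, 8], [1, 2, 3, 4, 5, 6, 7, 3, 2, 1, 4, 5, 8, 7, 3, 2, 4, 3, 5, 4], [1, 0, 2, 1, 3, 2, 7, 3, 8], [1, 2, 3, 4, 5, 6, 7, 3, 2, 1, 4, 5, 8, 7, 3, 2, 4, 3, 5, 6, 7, 8], [1, 0, 2, 1, 3], [1, 2, 3, 4, 5, 6, 7, 3, 2, 1, 4, 3, 8]],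
  [[1, 0, 2, 1, 3, 2, 4, 3, 5, 4, 6, 5], [1, 2, 3, 4, 5, 7, 3, 2, 1, 4, 3, 2, 7, 3, 4, 5], [1, 2, 3, 4, 5, 7, 3, 2, 1, 4, 3, 2, 7, 3, 4, 8], [], [1, 2, 3, 4, 7, 3, 2, 1], [1, 2, 3, 4, 5, 6, 7, 3, 2, 1, 4, 3, 2, 5, 8, 7, 3, 2, 4, 3, 5, 6, 7]],
  [[1, 0, 2, 1], [1, 2, 3, 4, 5, 6, 7, 3, 2, 1, 4, 3, 5, 4, 7, 3], [1, 0, 2, 1, 3, 4, 7, 3, 8], [1, 2, 3, 4, 5, 6, 7, 3, 2, 1, 4, 3, 5, 4, 7, 3, 8], [1, 0, 2, 1, 3, 2, 4, 3, 5, 4, 6], [], [1, 2, 3, 4, 5, 6, 7, 3, 2, 1, 4, 3, 2, 5, 4, 3, 8, 7, 3, 2, 4, 3, 5, 4, 6, 7, 8], [1, 0, 2, 1, 3], [1, 2, 3, 4, 5, 6, 7, 3, 2, 1, 4, 8, 7, 3, 2, 4, 3, 7]],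
  [[1, 2, 3, 4, 5, 7, 3, 2, 1, 4, 3, 2, 7, 3, 4, 5], [1, 0, 2, 1, 3, 4, 7, 3, 8], [1, 2, 3, 4, 5, 6, 7, 3, 2, 1, 4, 3, 5, 4, 7, 3, 8], [1, 0, 2, 1, 3, 2, 4, 3, 5, 4], [1, 0, 2, 1, 3, 4, 5, 6, 7, 3, 8], [1, 0, 2, 1, 3, 2, 4, 3], [1, 2, 3, 4, 5, 6, 7, 3, 2, 1, 4, 3, 5, 4, 7, 3, 8, 7, 3, 2, 4, 3, 5, 4, 6, 7, 8], [1, 2, 3, 4, 5, 6, 7, 3, 2, 1, 4, 3, 2, 5, 8, 7, 3, 2, 4, 5]],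
  [[1, 2, 3, 4, 5, 7, 3, 2, 1, 4, 3, 2, 7, 3, 4, 5], [1, 0, 2, 1], [1, 2, 3, 4, 5, 6, 7, 3, 2, 1, 4, 5], [1, 2, 3, 4, 5, 6, 7, 3, 2, 1, 4, 3, 5, 4, 7, 3, 8], [1, 2, 3, 4, 5, 6, 7, 3, 2, 1, 4, 3, 8, 7, 3, 2, 4, 3, 7], [1, 0, 2, 1, 3, 2, 7, 3, 8], [1, 2, 3, 4, 5, 6, 7, 3, 2, 1, 4, 3, 2, 8, 7, 3, 2, 4, 3, 5, 4, 6], [1, 0, 2, 1, 3], [1, 2, 3, 4, 5, 6, 7, 3, 2, 1, 4, 3, 5, 4, 7, 3, 8, 7, 3, 2, 4, 3, 5, 4, 6, 7, 3, 8]],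
  [[1, 0, 2, 1, 3, 2, 4, 3, 5, 4, 6, 5], [1, 2, 3, 4, 5, 7, 3, 2, 1, 4, 3, 2, 7, 3, 4, 5], [1, 0, 2, 1], [1, 2, 3, 4, 5, 6, 7, 3, 2, 1, 4, 5], [1, 2, 3, 4, 7, 3, 2, 1, 8, 7, 3, 2, 4, 3, 7], [], [1, 2, 3, 4, 7, 3, 2, 1, 8], [1, 0, 2, 1, 3], [1, 2, 3, 4, 5, 6, 7, 3, 2, 1, 4, 3, 5, 8, 7, 3, 2, 4, 3, 7, 8]],
  [[1, 2, 3, 4, 5, 6, 7, 3, 2, 1, 8, 7], [1, 2, 3, 4, 7, 3, 2, 1], [1, 2, 3, 4, 5, 6, 7, 3, 2, 1, 4, 8, 7, 3, 2, 4, 3]],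
  [[1, 2, 3, 4, 5, 7, 3, 2, 1, 4, 3, 2, 7, 3, 4, 5], [1, 2, 3, 4, 5, 6, 7, 3, 2, 1, 4, 3, 5, 4, 7, 3], [], [1, 2, 3, 4, 5, 6, 7, 3, 2, 1, 4, 3, 2, 5, 7, 3], [1, 2, 3, 4, 5, 6, 7, 3, 2, 1, 4, 3, 2, 5, 4, 3, 8, 7, 3, 2, 1, 0, 4, 3, 2, 1, 7, 3, 2, 8]],
  [[1, 0, 2, 1, 3, 4, 7, 3], [1, 0, 2, 1, 3, 4, 7, 3, 8], [1, 2, 3, 4, 5, 6, 7, 3, 2, 1, 4, 5, 8], [1, 0, 2, 1, 3, 4, 5, 7, 3, 8], [1, 2, 3, 4, 5, 6, 7, 3, 2, 1, 4, 3, 8, 7, 3, 2, 4, 3, 5, 7], [1, 2, 3, 4, 7, 3, 2, 1], [1, 2, 3, 4, 5, 6, 7, 3, 2, 1, 4, 3, 7, 8, 7, 3, 2, 4, 3], [1, 2, 3, 4, 7, 3, 2, 1, 8, 7, 3, 4, 5]],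
  [[1, 2, 3, 4, 5, 6, 7, 3, 2, 1, 4, 3, 2, 7, 8, 7, 3, 2, 4, 3, 5, 4], [1, 2, 3, 4, 5, 6, 7, 3, 2, 1, 4, 3, 2, 5, 4, 7, 8, 7, 3, 4, 5]],
  [[1, 2, 3, 4, 5, 7, 3, 2, 1, 4, 3, 2, 7, 3, 4, 5], [1, 0, 2, 1], [1, 0, 2, 1, 3, 4, 7, 3], [1, 0, 2, 1, 3, 4, 7, 3, 8], [1, 2, 3, 4, 7, 3, 2, 1, 8, 7, 3, 2, 4, 3, 7], [1, 0, 2, 1, 3, 2, 4, 3, 5, 4, 6], [1, 2, 3, 4, 5, 7, 3, 2, 1, 4, 3, 8, 7, 3, 2, 4, 3, 7], [1, 0, 2, 1, 3, 2, 4, 3, 5], [1, 2, 3, 4, 5, 6, 7, 3, 2, 1, 4, 3, 7, 8, 7, 3, 2, 4, 3, 7, 8], [1, 0, 2, 1, 3], [1, 2, 3, 4, 5, 6, 7, 3, 2, 1, 4, 3, 2, 5, 4]],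
  [[1, 0, 2, 1, 3, 2, 4, 3, 5, 4, 6, 5], [1, 2, 3, 4, 5, 7, 3, 2, 1, 4, 3, 2, 7, 3, 4, 5], [1, 0, 2, 1, 3, 4, 7, 3], [1, 0, 2, 1, 3, 2, 7, 3, 8, 7], [1, 0, 2, 1, 3, 2, 7, 3, 8], [1, 2, 3, 4, 5, 6, 7, 3, 2, 1, 4, 3, 2, 5, 4, 3, 8, 7, 3, 2, 1, 0, 4, 3, 2, 1], [1, 2, 3, 4, 5, 6, 7, 3, 2, 1, 4, 3, 2, 5, 7, 3, 8, 7, 3, 2, 1, 0, 4, 3, 2, 1, 7, 3, 8, 7]],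
  [[1, 0, 2, 1, 3, 2, 4, 3, 5, 4, 6, 5], [1, 2, 3, 4, 5, 7, 3, 2, 1, 4, 3, 2, 7, 3, 4, 5], [1, 0, 2, 1], [1, 2, 3, 4, 5, 6, 7, 3, 2, 1, 4, 5], [1, 2, 3, 4, 5, 6, 7, 3, 2, 1, 4], [1, 2, 3, 4, 5, 6, 7, 3, 2, 1, 4, 3, 2, 8, 7, 3, 2, 4, 3], [1, 2, 3, 4, 5, 6, 7, 3, 2, 1, 4, 3, 2, 5, 4, 3, 8, 7, 3, 2, 4, 3, 5, 4, 6], [1, 2, 3, 4, 5, 6, 7, 3, 2, 1, 4, 3, 5, 8, 7, 3, 2, 4, 3, 5, 4, 6]],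
  [[1, 0, 2, 1, 3, 2, 4, 3, 5, 4, 6, 5], [1, 2, 3, 4, 5, 6, 7, 3, 2, 1, 4, 5], [1, 2, 3, 4, 5, 7, 3, 2, 1, 4, 8], [1, 2, 3, 4, 5, 6, 7, 3, 2, 1, 4, 3, 8, 7, 3, 2, 4, 3, 7, 8], [1, 0, 2, 1, 3, 2, 7, 3], [1, 2, 3, 4, 5, 6, 7, 3, 2, 1, 4, 3, 2, 8, 7, 3, 2, 4, 3, 5, 4, 6], [1, 0, 2, 1, 3, 2, 4, 5, 6]],
  [[1, 0, 2, 1, 3, 4, 7, 3], [1, 2, 3, 4, 5, 6, 7, 3, 2, 1, 4, 3, 2, 5, 7, 3, 8, 7, 3, 2, 4, 3], [1, 2, 3, 4, 5, 7, 3, 2, 1, 4, 3, 2, 7, 3, 4], [1, 2, 3, 4, 5, 6, 7, 3, 2, 1, 4, 3, 2, 8, 7, 3, 2, 4, 3], [1, 2, 3, 4, 5, 6, 7, 3, 2, 1, 4, 5, 8, 7, 3, 2, 4, 3], [1, 0, 2, 1, 3], [1, 2, 3, 4, 5, 6, 7, 3, 2, 1, 4, 3, 5, 8, 7, 3, 2, 4, 3, 5, 4, 6]],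
  [[1, 0, 2, 1, 3, 2, 4, 3, 5, 4, 6, 5], [1, 0, 2, 1], [1, 0, 2, 1, 3, 4, 7, 3], [1, 2, 3, 4, 5, 6, 7, 3, 2, 1, 4, 3, 2, 5, 7, 3, 8, 7, 3, 2, 4, 3], [1, 2, 3, 4, 5, 6, 7, 3, 2, 1, 4], [1, 2, 3, 4, 5, 6, 7, 3, 2, 1, 4, 5, 8, 7, 3, 2, 4, 3, 5], [1, 2, 3, 4, 5, 6, 7, 3, 2, 1, 4, 3, 5, 4, 8, 7, 3, 2, 4, 3, 5, 4, 6, 5]],
  [[1, 2, 3, 4, 5, 7, 3, 2, 1, 4, 3, 2, 7, 3, 4, 5], [1, 2, 3, 4, 5, 6, 7, 3, 2, 1, 4, 5], [1, 0, 2, 1, 3, 4, 7, 3, 8], [1, 2, 3, 4, 5, 6, 7, 3, 2, 1, 4, 5, 8], [1, 2, 3, 4, 5, 7, 3, 2, 1, 4, 8], [1, 2, 3, 4, 5, 6, 7, 3, 2, 1, 4, 3, 2, 8, 7, 3, 2, 4, 3], [1, 0, 2, 1, 3, 2, 4, 3], [1, 2, 3, 4, 5, 6, 7, 3, 2, 1, 4, 3, 2, 8, 7, 3, 2,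 4, 3, 5, 6, 7], [1, 2, 3, 4, 5, 6, 7, 3, 2, 1, 4, 3, 2, 5, 4, 8, 7, 3, 2, 4, 3, 5, 4, 6, 7, 3, 2]],
  [[1, 0, 2, 1, 3, 2, 4, 3, 5, 4, 6, 5], [1, 2, 3, 4, 5, 7, 3, 2, 1, 4, 3, 2, 7, 3, 4, 5], [1, 2, 3, 4, 5, 6, 7, 3, 2, 1, 4, 3, 5, 4, 7, 3], [1, 2, 3, 4, 5, 6, 7, 3, 2, 1, 4, 5, 8], [1, 2, 3, 4, 5, 6, 7, 3, 2, 1, 4], [1, 2, 3, 4, 5, 6, 7, 3, 2, 1, 4, 3, 2, 5, 4, 3, 8, 7, 3, 2, 4, 3, 5, 6], [1, 0, 2, 1, 3, 2, 7, 3], [1, 2, 3, 4, 5, 6, 7, 3, 2, 1, 4, 5, 8, 7, 3, 2, 4, 3, 5], [1, 0, 2, 1, 3], [1, 2, 3, 4, 5, 6, 7, 3, 2, 1, 4, 3, 2, 5, 4, 8, 7, 3, 2, 4, 3, 5, 7], [1, 2], [1, 0, 2, 3]],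
  [[1, 2, 3, 4, 5, 7, 3, 2, 1, 4, 3, 2, 7, 3, 4, 5], [1, 0, 2, 1, 3, 4, 7, 3], [1, 2, 3, 4, 5, 6, 7, 3, 2, 1, 4, 3, 2, 5, 4, 3, 8, 7, 3, 2, 1, 0, 4, 3, 2, 1, 7, 3, 2, 8, 7, 3], [1, 0, 2, 1, 3], [1, 2, 3, 4, 5, 6, 7, 3, 2, 1, 4, 3, 2, 5, 7, 3, 8, 7, 3, 2, 1, 0, 4, 3, 2, 1, 7, 3, 8], [1, 2], [1, 0, 2, 3]],
  [[1, 0, 2, 1, 3, 2, 4, 3, 5, 4, 6, 5], [1, 2, 3, 4, 5, 7, 3, 2, 1, 4, 3, 2, 7, 3, 4, 5], [1, 2, 3, 4, 5, 6, 7, 3, 2, 1, 4, 3, 2, 5, 7, 3, 8, 7, 3, 2, 4, 3], [1, 0, 2, 1, 3, 2, 4, 3, 5, 4, 6], [1, 2, 3, 4, 5, 7, 3, 2, 1, 4, 3, 8, 7, 3, 2, 4, 3, 7], [1, 0, 2, 1, 3, 2, 4, 3], [1, 2, 3, 4, 5, 6, 7, 3, 2, 1, 4, 3, 2, 8, 7, 3, 2, 4, 3, 5, 4, 6, 7],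 [1, 0, 2, 1, 3], [1, 2, 3, 4, 5, 7, 3, 2, 1, 4, 3, 2, 7, 3, 8, 7, 3], [1, 2], [1, 0, 2, 3]],
  [[1, 2, 3, 4, 5, 7, 3, 2, 1, 4, 3, 2, 7, 3, 4, 5], [1, 0, 2, 1, 3, 4, 7, 3, 8], [1, 2, 3, 4, 7, 3, 2, 1, 8, 7, 3, 2, 4, 3, 7], [1, 2, 3, 4, 5, 7, 3, 2, 1, 4], [1, 2, 3, 4, 5, 6, 7, 3, 2, 1, 4, 3, 2, 5, 4, 3, 8, 7, 3, 2, 4, 3, 5, 6], [1, 2, 3, 4, 7, 3, 2, 1, 8], [1, 2, 3, 4, 5, 6, 7, 3, 2, 1, 4, 5, 8, 7, 3, 2, 4, 3, 5], [1, 0, 2, 1, 3], [1, 2, 3, 4, 5, 6, 7, 3, 2, 1, 4, 3, 2, 5, 4, 3, 8, 7, 3, 2, 4, 3, 5, 4, 7, 3, 2, 8, 7], [1, 2], [1, 0, 2, 3]],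
  [[1, 0, 2, 1, 3, 2, 4, 3, 5, 4, 6, 5], [1, 0, 2, 1], [1, 2, 3, 4, 5, 6, 7, 3, 2, 1, 4, 3, 5, 4, 7, 3], [1, 2, 3, 4, 5, 6, 7, 3, 2, 1, 4, 3, 5, 4, 7, 3, 8], [1, 0, 2, 1, 3, 4, 7, 3, 8, 7], [1, 0, 2, 1, 3, 4, 5, 6, 7, 3, 4, 5, 8, 7, 3, 2, 4, 3, 7], [1, 0, 2, 1, 3], [1, 2, 3, 4, 5, 6, 7, 3, 2, 1, 4, 3, 2, 5, 7, 8, 7, 3, 2, 4, 3, 7], [1, 2], [1, 0, 2, 3]],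
  [[1, 0, 2, 1], [1, 2, 3, 4, 5, 6, 7, 3, 2, 1, 4, 3, 5, 4, 7, 3], [1, 0, 2, 1, 3, 4, 7, 3, 8], [1, 2, 3, 4, 5, 6, 7, 3, 2, 1, 4, 5, 8], [1, 0, 2, 1, 3, 4, 5, 7, 3], [1, 2, 3, 4, 5, 6, 7, 3, 2, 1, 8, 7], [1, 0, 2, 1, 3, 4, 5, 7, 3, 4], [1, 2, 3, 4, 5, 6, 7, 3, 2, 1, 4, 3, 5, 4, 7, 3, 8, 7, 3, 2, 4, 3, 5, 4, 6], [1, 2, 3, 4, 5, 6, 7, 3, 2, 1, 4, 3, 2, 5, 4, 7, 8, 7, 3, 4], [1, 2], [1, 0, 2, 3]],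
  [[1, 0, 2, 1, 3, 2, 4, 3, 5, 4, 6, 5], [1, 2, 3, 4, 5, 6, 7, 3, 2, 1, 4, 3, 5, 4, 7, 3], [1, 2, 3, 4, 7, 3, 2, 1, 8, 7, 3, 2, 4, 3, 7], [1, 0, 2, 1, 3, 4, 5, 6, 7, 3, 8], [1, 2, 3, 4, 5, 6, 7, 3, 2, 1, 4, 3, 2, 8, 7, 3, 2, 4, 3, 5], [1, 0, 2, 1, 3, 2, 4, 3, 5], [1, 2, 3, 4, 5, 6, 7, 3, 2, 1, 4, 3, 7, 8, 7, 3, 2, 4, 3, 7, 8], [1, 2, 3, 4, 5, 6, 7, 3, 2, 1, 8, 7, 3, 4, 5, 6], [1, 2], [1, 0, 2, 3]],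
  [[1, 2, 3, 4, 5, 7, 3, 2, 1, 4, 8], [1, 2, 3, 4, 5, 6, 7, 3, 2, 1, 4, 3, 2, 5, 4, 3, 8, 7, 3, 2, 4, 3, 5], [1, 2, 3, 4, 5, 7, 3, 2, 1, 4, 3, 2, 7, 3, 8], [1, 2, 3, 4, 5, 6, 7, 3, 2, 1, 4, 3, 2, 5, 7, 8, 7, 3, 2, 4, 5], [1, 2], [1, 0, 2, 3]],
  [[1, 0, 2, 1, 3, 2, 4, 3, 5, 4, 6, 5], [1, 0, 2, 1], [1, 0, 2, 1, 3, 4, 7, 3], [1, 0, 2, 1, 3, 2, 7, 3, 8, 7], [1, 0, 2, 1, 3, 4, 5, 7, 3], [1, 2, 3, 4, 5, 7, 3, 2, 1, 4, 8], [1, 2, 3, 4, 5, 6, 7, 3, 2, 1, 4, 3, 2, 5, 4, 3, 8, 7, 3, 2, 4, 3, 5], [1, 2, 3, 4, 7, 3, 2, 1], [1, 2, 3, 4, 5, 6, 7, 3, 2, 1, 4, 3, 2, 7, 3, 8], [1, 2, 3, 4, 5, 6, 7, 3, 2, 1, 4, 3, 2, 5, 8, 7, 3, 2, 4, 5, 6], [1, 2], [1, 0, 2,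 3]],
  [[1, 2, 3, 4, 5, 7, 3, 2, 1, 4, 3, 2, 7, 3, 4, 5], [1, 0, 2, 1], [1, 0, 2, 1, 3, 4, 7, 3], [1, 2, 3, 4, 5, 6, 7, 3, 2, 1, 4, 3, 5, 4, 7, 3, 8], [1, 2, 3, 4, 5, 7, 3, 2, 1, 4, 3, 8, 7, 3, 2, 4, 3, 7], [1, 2, 3, 4, 7, 3, 2, 1], [1, 0, 2, 1, 3, 4, 5, 7, 3, 4, 8], [1, 2, 3, 4, 5, 6, 7, 3, 2, 1, 4, 3, 5, 7, 8, 7, 3, 2, 4, 3, 5, 4, 6, 7, 8], [1, 2], [1, 0, 2, 3]],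
  [[1, 0, 2, 1, 3, 2, 4, 3, 5, 4, 6, 5], [1, 2, 3, 4, 5, 6, 7, 3, 2, 1, 4, 3, 2, 7, 3, 4, 8], [1, 2, 3, 4, 5, 6, 7, 3, 2, 1, 4, 3, 2, 8, 7, 3, 2, 4, 3, 5, 6, 7], [1, 2, 3, 4, 5, 7, 3, 2, 1, 4, 3, 7, 8], [1, 2], [1, 0, 2, 3]],
  [[1, 0, 2, 1, 3, 2, 4, 3, 5, 4, 6, 5], [1, 0, 2, 1], [1, 2, 3, 4, 5, 6, 7, 3, 2, 1, 4, 5], [1, 0, 2, 1, 3, 4, 7, 3, 8], [1, 2, 3, 4, 7, 3, 2, 1, 8, 7, 3, 2, 4, 3, 7], [1, 0, 2, 1, 3, 2, 4, 3, 5, 4, 6], [1, 2, 3, 4, 5, 6, 7, 3, 2, 1, 4, 3, 8, 7, 3, 2, 4, 3, 7, 8], [1, 0, 2, 1, 3, 2, 4, 3, 5, 6], [1, 2, 3, 4, 5, 6, 7, 3, 2, 1, 4, 5, 8, 7, 3, 2, 4, 3, 5, 4, 6, 7, 8], [1, 2, 3, 4, 5, 7, 3, 2, 1, 8, 7, 3, 4, 5], [1, 2], [1,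 0, 2, 3]],
  [[1, 2, 3, 4, 5, 6, 7, 3, 2, 1, 4, 3, 5, 4, 7, 3], [1, 0, 2, 1, 3, 4, 5, 7, 3], [1, 2, 3, 4, 5, 7, 3, 2, 1, 4, 8], [1, 2, 3, 4, 5, 6, 7, 3, 2, 1, 4, 3, 2, 5, 4, 3, 8, 7, 3, 2, 4, 3, 5], [], [1, 2, 3, 4, 5, 6, 7, 3, 2, 1, 4, 3, 5, 4, 7, 3, 8, 7, 3, 2, 4, 3], [1, 2, 3, 4, 5, 6, 7, 3, 2, 1, 4, 3, 5, 4, 8, 7, 3, 2, 4, 3, 7], [1, 2], [1, 0, 2, 3]],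
  [[1, 0, 2, 1, 3, 2, 4, 3, 5, 4, 6, 5], [1, 2, 3, 4, 5, 7, 3, 2, 1, 4, 3, 2, 7, 3, 4, 5], [1, 0, 2, 1], [1, 2, 3, 4, 5, 6, 7, 3, 2, 1, 4, 5, 8], [1, 2, 3, 4, 5, 6, 7, 3, 2, 1, 4, 3, 2, 8, 7, 3, 2, 4, 3], [1, 0, 2, 1, 3, 2, 4, 3, 5], [1, 2, 3, 4, 5, 6, 7, 3, 2, 1, 4, 3, 5, 4, 7, 3, 8, 7, 3, 2, 4, 3, 5, 6, 7, 8], [1, 2, 3, 4, 5, 7, 3, 2, 1, 4, 3, 8, 7, 3, 4, 5], [1, 2], [1, 0, 2, 3]],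
  [[1, 0, 2, 1, 3, 2, 4, 3, 5, 4, 6, 5], [1, 2, 3, 4, 5, 6, 7, 3, 2, 1, 4, 5], [1, 2, 3, 4, 5, 6, 7, 3, 2, 1, 4, 3, 2, 5, 4, 3, 8, 7, 3, 2, 4, 3], [1, 0, 2, 1, 3, 4, 5, 7, 3], [1, 2, 3, 4, 5, 7, 3, 2, 1, 8, 7], [1, 2, 3, 4, 5, 6, 7, 3, 2, 1, 4, 3, 8, 7, 3, 2, 4, 3, 5, 7], [1, 0, 2, 1, 3, 2, 7, 3], [1, 2, 3, 4, 5, 6, 7, 3, 2, 1, 4, 5, 8, 7, 3, 2, 4, 3, 5, 7], [1, 2, 3, 4, 5, 6, 7, 3, 2, 1, 4, 3, 5, 8, 7, 3, 2, 4, 3, 5, 6, 7], [1, 2], [1, 0, 2, 3]],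
  [[1, 0, 2, 1, 3, 2, 4, 3, 5, 4, 6, 5], [1, 2, 3, 4, 5, 7, 3, 2, 1, 4, 3, 2, 7, 3, 4, 5], [1, 2, 3, 4, 5, 6, 7, 3, 2, 1, 4, 5], [1, 0, 2, 1, 3, 2, 7, 3, 8, 7], [1, 0, 2, 1, 3, 4, 5, 7, 3], [1, 2, 3, 4, 5, 7, 3, 2, 1, 4, 8], [1, 2, 3, 4, 5, 6, 7, 3, 2, 1, 4, 3, 2, 5, 4, 3, 8, 7, 3, 2, 4, 3, 5], [1, 0, 2, 1, 3, 2, 7, 3, 8], [1, 2, 3, 4, 5, 6, 7, 3, 2, 1, 4, 3, 2, 5, 4, 3, 8, 7, 3, 2, 1, 0, 4, 3, 2, 1, 7, 8], [1, 2, 3, 4, 5, 6, 7, 3, 2, 1, 4, 3, 2, 5, 4, 3, 8, 7, 3, 4], [1], [1, 0, 2, 3, 4]],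
  [[1, 2, 3, 4, 5, 7, 3, 2, 1, 4, 3, 2, 7, 3, 4, 5], [1, 2, 3, 4, 5, 6, 7, 3, 2, 1, 4, 3, 2, 5, 4, 3, 8, 7, 3, 2, 4, 3], [1, 2, 3, 4, 5, 6, 7, 3, 2, 1, 4, 3, 2, 7, 3, 4, 8], [1, 2, 3, 4, 5, 7, 3, 2, 1, 4, 3, 2, 7, 3], [1, 2, 3, 4, 5, 7, 3, 2, 1, 4, 3, 7, 8], [1], [1, 0, 2, 3, 4]],
  [[1, 2, 3, 4, 5, 7, 3, 2, 1, 4, 3, 2, 7, 3, 4, 5], [1, 0, 2, 1], [1, 2, 3, 4, 5, 6, 7, 3, 2, 1, 4, 5], [1, 0, 2, 1, 3, 4, 7, 3, 8], [1, 2, 3, 4, 7, 3, 2, 1, 8, 7, 3, 2, 4, 3, 7], [1, 0, 2, 1, 3, 4, 5, 6, 7, 3], [1, 2, 3, 4, 5, 6, 7, 3, 2, 1, 4, 3, 2, 7, 8, 7, 3, 2, 4, 3, 5], [], [1, 2, 3, 4, 5, 6, 7, 3, 2, 1, 4, 3, 8, 7, 3, 2, 4, 3, 5, 4, 7], [1, 2, 3, 4, 5, 6, 7,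 3, 2, 1, 4, 3, 5, 8, 7, 3, 2, 4, 3, 5, 4, 7, 3, 2, 8], [1], [1, 0, 2, 3, 4]],
  [[1, 2, 3, 4, 5, 7, 3, 2, 1, 4, 3, 2, 7, 3, 4, 5], [1, 0, 2, 1], [1, 2, 3, 4, 5, 6, 7, 3, 2, 1, 4, 3, 5, 4, 7, 3], [1, 2, 3, 4, 5, 6, 7, 3, 2, 1, 4, 3, 2, 5, 7, 3, 8, 7, 3, 2, 4, 3], [1, 2, 3, 4, 5, 6, 7, 3, 2, 1, 4, 3, 2, 8, 7, 3, 2, 4, 3, 5, 6], [1, 2, 3, 4, 5, 6, 7, 3, 2, 1, 4, 5, 8, 7, 3, 2, 4, 3, 5, 6], [1, 2, 3, 4, 5, 6, 7, 3, 2, 1, 4, 3, 2, 5, 4, 7, 8, 7, 3], [1], [1, 0, 2, 3, 4]],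
  [[1, 0, 2, 1], [1, 2, 3, 4, 5, 6, 7, 3, 2, 1, 4, 3, 5, 4, 7, 3], [1, 0, 2, 1, 3, 4, 7, 3, 8], [1, 2, 3, 4, 5, 6, 7, 3, 2, 1, 4, 3, 5, 4, 7, 3, 8], [1, 2, 3, 4, 5, 6, 7, 3, 2, 1, 4, 5, 8, 7, 3, 2, 4, 3, 5, 4, 6], [], [1, 2, 3, 4, 5, 6, 7, 3, 2, 1, 4, 3, 8, 7, 3, 2, 4, 3, 5], [1, 0, 2, 1, 3], [1, 2, 3, 4, 5, 6, 7, 3, 2, 1, 4, 3, 5, 8, 7, 3, 2, 4, 3, 5, 7, 8], [1, 2], [1, 0, 2, 3, 4, 7]],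
  [[1, 0, 2, 1, 3, 2, 4, 3, 5, 4, 6, 5], [1, 2, 3, 4, 5, 7, 3, 2, 1, 4, 3, 2, 7, 3, 4, 5], [1, 0, 2, 1, 3, 4, 7, 3, 8], [1, 2, 3, 4, 7, 3, 2, 1, 8, 7, 3, 2, 4, 3, 7], [1, 0, 2, 1, 3, 2, 4, 3, 5, 4, 6], [1, 2, 3, 4, 5, 7, 3, 2, 1, 4, 3, 8, 7, 3, 2, 4, 3, 7], [], [1, 2, 3, 4, 5, 7, 3, 2, 1, 4, 8, 7], [1, 2, 3, 4, 5, 7, 3, 2, 1, 4, 3, 2, 7, 8, 7, 3, 2, 4], [1, 2, 3, 4, 5], [1, 0, 2, 3, 4, 5, 6]],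
  [[1, 0, 2, 1, 3, 2, 4, 3, 5, 4, 6, 5], [1, 2, 3, 4, 7, 3, 2, 1, 8, 7], [], [1, 2, 3, 4, 5, 6, 7, 3, 2, 1, 4, 3, 5, 4, 7, 3, 8, 7], [1, 0, 2, 1, 3], [1, 2, 3, 4, 5, 6, 7, 3, 2, 1, 4, 5, 8, 7, 3, 2, 4], [1, 2, 3, 4, 5], [1, 0, 2, 3, 4, 5, 6]],
  [[1, 0, 2, 1, 3, 2, 4, 3, 5, 4, 6, 5], [1, 2, 3, 4, 5, 7, 3, 2, 1, 4, 3, 2, 7, 3, 4, 5], [1, 2, 3, 4, 5, 6, 7, 3, 2, 1, 4, 3, 5, 4, 7, 3], [1, 2, 3, 4, 7, 3, 2, 1, 8, 7, 3, 2, 4, 3, 7], [], [1, 2, 3, 4, 5, 6, 7, 3, 2, 1, 4, 5, 8, 7], [1, 2, 3, 4, 5, 6, 7, 3, 2, 1, 4, 3, 5, 7, 8], [1, 2, 3, 4, 5], [1, 0, 2, 3, 4, 5, 6]],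
  [[1, 0, 2, 1, 3, 2, 4, 3, 5, 4, 6, 5], [1, 2, 3, 4, 5, 7, 3, 2, 1, 4, 3, 2, 7, 3, 4, 5], [1, 0, 2, 1], [1, 2, 3, 4, 5, 6, 7, 3, 2, 1, 4, 3, 2, 5, 4, 3, 8, 7, 3, 2, 4, 3], [1, 2, 3, 4, 5, 7, 3, 2, 1, 4], [1, 2, 3, 4, 5, 6, 7, 3, 2, 1, 4, 5, 8, 7, 3, 2, 4, 3, 5, 4], [1, 2, 3, 4, 5, 6, 7, 3, 2, 1, 4, 3, 2, 5, 4, 3, 8, 7, 3, 2, 4, 3, 7, 8], [1, 2, 3, 4, 5, 6, 7, 3, 2, 1, 4, 3, 2, 8, 7, 3, 2], [1], [1, 2, 3, 4, 5, 6, 7, 3, 2, 4, 3, 5, 7]],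
  [[1, 2, 3, 4, 5, 7, 3, 2, 1, 4, 3, 2, 7, 3, 4, 5], [1, 0, 2, 1], [1, 2, 3, 4, 7, 3, 2, 1, 8, 7, 3, 2, 4, 3, 7], [1, 2, 3, 4, 5, 6, 7, 3, 2, 1, 8, 7], [1, 0, 2, 1, 3, 2, 4, 3], [1, 2, 3, 4, 5, 6, 7, 3, 2, 1, 4, 3, 7, 8, 7, 3, 2, 4, 3, 5, 4], [1, 2, 3, 4, 5, 6, 7, 3, 2, 1, 8, 7, 3, 4, 5, 6], [1], [1, 2, 3, 4, 5, 6, 7, 3, 2, 1, 4, 3, 5, 4, 8, 7, 3, 2, 1, 4, 3, 7, 8]],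
  [[1, 2, 3, 4, 5, 7, 3, 2, 1, 4, 3, 2, 7, 3, 4, 5], [1, 0, 2, 1], [1, 2, 3, 4, 7, 3, 2, 1, 8, 7, 3, 2, 4, 3, 7], [1, 0, 2, 1, 3, 2, 4, 3, 5, 4], [1, 2, 3, 4, 5, 6, 7, 3, 2, 1, 4, 3, 2, 5, 4, 3, 8, 7, 3, 2, 4, 3, 5, 6], [1, 0, 2, 1, 3, 2, 7, 3, 8], [1, 2, 3, 4, 5, 6, 7, 3, 2, 1, 4, 5, 8, 7, 3, 2, 4, 3, 5, 6], [1, 2, 3, 4, 5, 6, 7, 3, 2, 1, 4, 3, 5, 8, 7, 3, 2, 4, 3, 5, 4, 6], [1], [1, 2, 3, 4, 5, 6, 7, 3, 2, 1, 4, 3, 5, 4, 8, 7, 3, 2, 1, 4, 3, 7, 8]],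
  [[1, 0, 2, 1, 3, 2, 4, 3, 5, 4, 6, 5], [1, 2, 3, 4, 5, 6, 7, 3, 2, 1, 4, 3, 5, 4, 7, 3], [1, 2, 3, 4, 7, 3, 2, 1, 8, 7, 3, 2, 4, 3, 7], [1, 2, 3, 4, 5, 7, 3, 2, 1, 8, 7], [1, 0, 2, 1, 3, 2, 7, 3], [1, 2, 3, 4, 5, 6, 7, 3, 2, 1, 4, 5, 8, 7, 3, 2, 4, 3, 5, 7], [1, 0, 2, 1, 3, 7], [1, 2, 3, 4, 5, 6, 7, 3, 2, 1, 4, 3, 2, 5, 7, 3, 8, 7, 3, 2, 1, 0, 4, 3, 2, 1, 7, 3], [1], [1, 2, 3, 4, 5, 6, 7, 3, 2, 1, 4, 3, 5, 4, 8, 7, 3, 2, 1, 4, 3, 7, 8]],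
  [[1, 0, 2, 1, 3, 2, 4, 3, 5, 4, 6, 5], [1, 2, 3, 4, 5, 7, 3, 2, 1, 4, 3, 2, 7, 3, 4, 5], [1, 0, 2, 1, 3, 4, 7, 3], [1, 2, 3, 4, 5, 6, 7, 3, 2, 1, 4, 5, 8], [1, 0, 2, 1, 3, 2, 4, 3, 5, 4], [1, 2, 3, 4, 5, 6, 7, 3, 2, 1, 4, 3, 8, 7, 3, 2, 4, 3, 5, 7], [1, 0, 2, 1, 3, 2, 4, 3], [1, 2, 3, 4, 5, 6, 7, 3, 2, 1, 4, 3, 2, 5, 4, 3, 8, 7, 3, 2, 4, 3, 5, 4, 7], [1, 2, 3, 4, 5, 6, 7, 3, 2, 1, 4, 3, 2, 5, 4, 3, 8, 7, 3, 2, 1, 0, 4, 3, 2, 1, 7, 3, 8, 7], [1], [1, 2, 3, 4, 5, 6, 7, 3, 2, 1, 4, 3, 5, 7, 8, 7, 3, 2, 1, 4, 3, 7, 8]],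
  [[1, 2, 3, 4, 5, 7, 3, 2, 1, 4, 3, 2, 7, 3, 4, 5], [1, 0, 2, 1], [1, 2, 3, 4, 5, 6, 7, 3, 2, 1, 4, 3, 5, 4, 7, 3], [1, 0, 2, 1, 3, 2, 7, 3, 8, 7], [1, 2, 3, 4, 5, 7, 3, 2, 1, 4, 8], [1, 2, 3, 4, 5, 6, 7, 3, 2, 1, 4, 3, 8, 7, 3, 2, 4, 3, 7], [1, 0, 2, 1, 3, 2, 4, 3], [1, 2, 3, 4, 5, 6, 7, 3, 2, 1, 4, 3, 2, 7, 3, 8, 7], [1, 2, 3, 4, 5, 6, 7, 3, 2, 1, 4, 3, 2, 5, 8, 7, 3, 2, 4, 3, 5, 7], [1], [1, 2, 3, 4, 5, 6, 7, 3, 2, 1, 4, 3, 2, 5, 4, 7, 8, 7, 3, 2, 1, 4, 3, 7, 8]],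
  [[1, 0, 2, 1, 3, 2, 4, 3, 5, 4, 6, 5], [1, 2, 3, 4, 5, 7, 3, 2, 1, 4, 3, 2, 7, 3, 4, 5], [1, 0, 2, 1], [1, 0, 2, 1, 3, 4, 7, 3], [1, 0, 2, 1, 3, 4, 7, 3, 8], [1, 2, 3, 4, 5, 6, 7, 3, 2, 1, 4, 3, 5, 4, 7, 3, 8], [1, 2, 3, 4, 5, 7, 3, 2, 1, 4, 3, 2, 7, 3, 4], [], [1, 0, 2, 1, 3, 4, 5, 6, 7, 3, 4], [1, 0, 2, 1, 3], [1, 2, 3, 4, 5, 6, 7, 3, 2, 1, 4, 3, 5, 8, 7, 3, 2, 4, 3, 5, 4, 6, 5], [1], [1, 2, 3, 4, 5, 6, 7, 3, 2, 1, 4, 3, 2, 5, 4, 7, 8, 7, 3, 2, 1, 4, 3, 7, 8]],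
  [[1, 2, 3, 4, 5, 6, 7, 3, 2, 1, 4, 5], [1, 2, 3, 4, 5, 6, 7, 3, 2, 1, 4, 3, 2, 5, 4, 3, 8, 7, 3, 2, 4, 3], [1, 0, 2, 1, 3, 4, 5, 7, 3], [1, 2, 3, 4, 5, 7, 3, 2, 1, 8, 7], [1, 2, 3, 4, 5, 6, 7, 3, 2, 1, 4, 3, 8, 7, 3, 2, 4, 3, 5], [1, 2, 3, 4, 5, 6, 7, 3, 2, 1, 4, 3, 2, 5, 4, 7, 8, 7, 3, 2, 4, 3, 5], [1], [1, 2, 3, 4, 5, 6, 7, 3, 2, 1, 4, 3, 2, 5, 4, 3, 8, 7, 3, 2, 1, 0, 4, 3, 2, 7, 3, 8, 7]],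
  [[1, 2, 3, 4, 5, 7, 3, 2, 1, 4, 3, 2, 7, 3, 4, 5], [1, 0, 2, 1], [1, 0, 2, 1, 3, 4, 7, 3, 8], [1, 0, 2, 1, 3, 4, 5, 7, 3], [1, 0, 2, 1, 3, 2, 4, 3], [1, 2, 3, 4, 5, 6, 7, 3, 2, 1, 4, 3, 7, 8, 7, 3, 2, 4, 3, 5, 6], [1, 2, 3, 4, 5, 6, 7, 3, 2, 1, 4, 3, 5, 4, 8, 7, 3, 2, 4, 3, 5, 6, 7, 8], [1], [1, 2, 3, 4, 5, 6, 7, 3, 2, 1, 4, 3, 2, 5, 4, 3, 8, 7, 3, 2, 1, 0, 4, 3, 2, 7, 3, 8, 7]],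
  [[1, 0, 2, 1], [1, 2, 3, 4, 5, 6, 7, 3, 2, 1, 4, 3, 5, 4, 7, 3], [1, 0, 2, 1, 3, 4, 7, 3, 8], [1, 2, 3, 4, 5, 6, 7, 3, 2, 1, 4, 3, 5, 4, 7, 3, 8], [1, 2, 3, 4, 5, 7, 3, 2, 1, 4, 3, 2, 7, 3, 4, 8], [1, 2, 3, 4, 5, 6, 7, 3, 2, 1, 4, 3, 2, 7, 8, 7, 3, 2, 4, 3], [1, 2, 3, 4, 5, 6, 7, 3, 2, 1, 4, 3, 2, 8, 7, 3, 2, 4, 3, 7], [1, 2, 3, 4, 5, 6, 7, 3, 2, 1, 4, 3, 5, 7, 8, 7, 3, 4, 5], [1], [1, 2, 3, 4, 5, 6, 7, 3, 2, 1, 4, 3, 2, 5, 4, 3, 8, 7, 3, 2, 1, 0, 4, 3, 2, 7, 3, 8, 7]],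
  [[1, 2, 3, 4, 5, 7, 3, 2, 1, 4, 3, 2, 7, 3, 4, 5], [1, 0, 2, 1, 3, 4, 7, 3], [1, 2, 3, 4, 5, 6, 7, 3, 2, 1, 4, 3, 2, 5, 4, 3, 8, 7, 3, 2, 4, 3], [1, 0, 2, 1, 3, 4, 5, 7, 3], [1, 2, 3, 4, 5, 7, 3, 2, 1, 8, 7], [1, 2, 3, 4, 5, 6, 7, 3, 2, 1, 4, 3, 8, 7, 3, 2, 4, 3, 5, 7], [1, 0, 2, 1, 3, 2, 7, 3], [1, 0, 2, 1, 3, 4, 5, 6, 7, 3, 4, 8, 7], [1, 0, 2, 1, 3, 4], [1, 2, 3, 4, 5, 7, 3, 2, 1, 4, 3, 7, 8, 7, 3, 2, 4, 5, 6], [1], [1, 2, 3, 4, 5, 6, 7, 3, 2, 1, 4, 3, 2, 5, 4, 3, 8, 7, 3, 2, 1, 0, 4, 3, 2, 7, 3, 8, 7]],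
  [[1, 0, 2, 1, 3, 4, 7, 3, 8], [1, 2, 3, 4, 5, 6, 7, 3, 2, 1, 4, 5, 8], [1, 0, 2, 1, 3, 4, 5, 7, 3], [1, 2, 3, 4, 5, 6, 7, 3, 2, 1, 4, 3, 2, 7, 3, 4, 8], [1, 2, 3, 4, 7, 3, 2, 1], [1, 0, 2, 1, 3, 4, 5, 6, 7, 3, 4, 8], [1, 0, 2, 1, 3, 4], [1, 2, 3, 4, 5, 7, 3, 2, 1, 4, 3, 2, 7, 8], [1], [1, 2, 3, 4, 5, 6, 7, 3, 2, 1, 4, 3, 2, 5, 4, 3, 8, 7, 3, 2, 1, 0, 4, 3, 2, 7, 3, 8, 7]],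
  [[1, 2, 3, 4, 5, 7, 3, 2, 1, 4, 3, 2, 7, 3, 4, 5], [1, 0, 2, 1], [1, 2, 3, 4, 5, 6, 7, 3, 2, 1, 4, 5], [1, 0, 2, 1, 3, 4, 7, 3, 8], [1, 2, 3, 4, 5, 7, 3, 2, 1, 4, 3, 2, 8, 7, 3, 2, 4, 3, 5], [1, 0, 2, 1, 3, 4, 5, 7, 3, 4], [1, 2, 3, 4, 5, 6, 7, 3, 2, 1, 4, 3, 5, 4, 7, 3, 8, 7, 3, 2, 4, 3, 5, 4, 7], [1, 2, 3, 4, 5, 6, 7, 3, 2, 1, 4, 3, 5, 4], [1], [1, 2, 3, 4, 5, 6, 7, 3, 2, 1, 4, 3, 2, 5, 7, 3, 8, 7, 3, 2, 1, 0, 4, 3, 2, 7, 3, 8, 7]],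
  [[1, 0, 2, 1, 3, 2, 4, 3, 5, 4, 6, 5], [1, 0, 2, 1, 3, 4, 7, 3], [1, 2, 3, 4, 5, 6, 7, 3, 2, 1, 4, 3, 2, 5, 4, 3, 8, 7, 3, 2, 4, 3], [1, 0, 2, 1, 3, 4, 5, 7, 3], [1, 2, 3, 4, 5, 7, 3, 2, 1, 4, 3, 2, 8, 7, 3, 2, 4, 3, 5], [], [1, 2, 3, 4, 5, 6, 7, 3, 2, 1, 4, 3, 5, 4, 7, 3, 8, 7, 3, 2, 4, 3, 5, 4, 7, 8], [1, 2, 3, 4, 5, 6, 7, 3, 2, 1, 4, 3, 7, 8, 7, 3, 4, 5], [1], [1, 2, 3, 4, 5, 6, 7, 3, 2, 1, 4, 3, 2, 5, 7, 3, 8, 7, 3, 2, 1, 0, 4, 3, 2, 7, 3, 8, 7]],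
  [[1, 0, 2, 1, 3, 2, 4, 3, 5, 4, 6, 5], [1, 2, 3, 4, 5, 7, 3, 2, 1, 4, 3, 2, 7, 3, 4, 5], [1, 0, 2, 1, 3, 4, 7, 3], [1, 2, 3, 4, 5, 6, 7, 3, 2, 1, 4, 3, 2, 5, 7, 3, 8, 7, 3, 2, 4, 3], [1, 0, 2, 1, 3, 4, 5, 7, 3], [1, 2, 3, 4, 5, 7, 3, 2, 1, 4, 3, 2, 8, 7, 3, 2, 4, 3], [1, 0, 2, 1, 3, 4, 5, 6, 7, 3, 4, 8, 7], [1, 2, 3, 4, 5, 6, 7, 3, 2, 1, 4, 3, 5, 4, 7, 3, 8, 7, 3, 4, 5], [1], [1, 2, 3, 4, 5, 6, 7, 3, 2, 1, 4, 3, 2, 5, 7, 3, 8, 7, 3, 2, 1, 0, 4, 3, 2, 7, 3, 8, 7]],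
  [[1, 0, 2, 1, 3, 2, 4, 3, 5, 4, 6, 5], [1, 2, 3, 4, 5, 7, 3, 2, 1, 4, 3, 2, 7, 3, 4, 5], [1, 0, 2, 1], [1, 2, 3, 4, 5, 6, 7, 3, 2, 1, 4, 3, 5, 4, 7, 3], [1, 0, 2, 1, 3, 4, 7, 3, 8], [1, 2, 3, 4, 5, 6, 7, 3, 2, 1, 4, 5, 8], [1, 0, 2, 1, 3, 2, 7, 3, 8], [1, 0, 2, 1, 3, 4, 5, 6, 7, 3, 4, 5], [1, 2, 3, 4, 5, 6, 7, 3, 2, 1, 4, 3, 5, 8, 7, 3, 4], [1], [1, 2, 3, 4, 5, 6, 7, 3, 2, 1, 4, 3, 2, 5, 7, 3, 8, 7, 3, 2, 1, 0, 4, 3, 2, 7, 3, 8, 7]],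
  [[1, 2, 3, 4, 5, 7, 3, 2, 1, 4, 3, 2, 7, 3, 4, 5], [1, 2, 3, 4, 5, 6, 7, 3, 2, 1, 4, 3, 5, 4, 7, 3], [1, 0, 2, 1, 3, 4, 7, 3, 8], [1, 2, 3, 4, 5, 6, 7, 3, 2, 1, 4, 3, 5, 4, 7, 3, 8], [1, 0, 2, 1, 3, 4, 5, 6, 7, 3, 8], [1, 2, 3, 4, 5, 7, 3, 2, 1, 4, 3, 8, 7, 3, 2, 4, 3, 7], [], [1, 2, 3, 4, 5, 6, 7, 3, 2, 1, 4, 3, 7, 8, 7, 3, 2, 4, 3, 5, 4, 6], [1, 0, 2, 1, 3, 4, 5, 6, 7, 3, 4, 8, 7, 3, 2], [1], [1, 2, 3, 4, 5, 6, 7, 3, 2, 1, 4, 3, 2, 5, 7, 3, 8, 7, 3, 2, 1, 0, 4, 3, 2, 7, 3, 8, 7]],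
  [[1, 0, 2, 1, 3, 2, 4, 3, 5, 4, 6, 5], [1, 2, 3, 4, 5, 6, 7, 3, 2, 1, 4, 5], [1, 0, 2, 1, 3, 4, 7, 3, 8], [1, 2, 3, 4, 5, 7, 3, 2, 1, 8, 7], [1, 2, 3, 4, 5, 6, 7, 3, 2, 1, 4, 3, 8, 7, 3, 2, 4, 3, 5, 7], [], [1, 2, 3, 4, 5, 7, 3, 2, 1, 4, 3, 7, 8, 7, 3, 2, 4, 3, 5], [1, 0, 2, 1, 3, 4], [1, 2, 3, 4, 5, 6, 7, 3, 2, 1, 4, 3, 2, 8, 7, 3, 2, 4, 3, 5, 4, 6, 7, 3], [1], [1, 2, 3, 4, 5, 6, 7, 3, 2, 1, 4, 3, 2, 5, 7, 3, 8, 7, 3, 2, 1, 0, 4, 3, 2, 7, 3, 8, 7]],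
  [[1, 0, 2, 1], [1, 0, 2, 1, 3, 4, 7, 3, 8], [1, 2, 3, 4, 7, 3, 2, 1, 8, 7, 3, 2, 4, 3, 7], [1, 2, 3, 4, 5, 7, 3, 2, 1, 4, 3, 2, 7, 3, 4, 8], [1, 2, 3, 4, 5, 6, 7, 3, 2, 1, 4, 3, 2, 5, 4, 3, 8, 7, 3, 2, 4, 3, 5, 6], [1, 2, 3, 4, 5, 6, 7, 3, 2, 1, 4, 3, 8, 7, 3, 2, 4, 3, 5, 4, 6], [1, 2, 3, 4, 5, 6, 7, 3, 2, 1, 4, 3, 2, 5, 7, 8, 7, 3, 2, 4, 3, 5], [1], [1, 2, 3, 4, 5, 6, 7, 3, 2, 1, 4, 3, 2, 5, 7, 3, 8, 7, 3, 2, 1, 0, 4, 3, 2, 7, 3, 8, 7]]]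

/-- their permutations of the base -/
def gPerm : List (List ℕ) :=
  [[0, 1, 2, 3, 4, 5, 6, 7, 8, 9, 10, 11, 12, 13, 14, 15, 16, 17, 18, 19, 20, 21],
  [0, 1, 2, 4, 3, 12, 6, 13, 14, 15, 16, 17, 5, 7, 8, 9, 10, 11, 19, 18, 20, 21],
  [0, 1, 2, 14, 11, 8, 20, 3, 19, 10, 15, 18, 17, 12, 7, 9, 16, 13, 4, 5, 21, 6],
  [0, 1, 3, 2, 5, 4, 9, 16, 15, 6, 10, 20, 12, 21, 14, 8, 7, 19, 18, 17, 11, 13],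
  [0, 1, 3, 2, 12, 5, 11, 14, 8, 21, 17, 6, 4, 20, 7, 18, 16, 10, 15, 19, 13, 9],
  [0, 1, 6, 3, 7, 8, 2, 4, 5, 9, 12, 11, 10, 13, 18, 17, 19, 15, 14, 16, 21, 20],
  [0, 1, 6, 9, 17, 19, 2, 15, 16, 3, 10, 13, 12, 11, 14, 7, 8, 4, 18, 5, 21, 20],
  [0, 1, 6, 11, 15, 5, 2, 17, 8, 13, 14, 3, 18, 9, 10, 4, 16, 7, 12, 19, 21, 20],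
  [0, 1, 8, 15, 13, 21, 16, 9, 2, 7, 10, 17, 12, 4, 14, 3, 6, 11, 18, 20, 19, 5],
  [0, 1, 14, 8, 11, 2, 18, 9, 20, 16, 4, 19, 17, 5, 15, 13, 6, 3, 7, 21, 12, 10],
  [0, 1, 17, 18, 3, 21, 4, 9, 20, 14, 8, 10, 16, 12, 5, 11, 2, 13, 19, 6, 15, 7],
  [0, 1, 20, 3, 15, 19, 21, 17, 16, 9, 18, 11, 14, 13, 12, 4, 8, 7, 10, 5, 2, 6],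
  [0, 2, 1, 3, 4, 12, 6, 13, 15, 14, 17, 16, 5, 7, 9, 8, 11, 10, 18, 19, 21, 20],
  [0, 2, 1, 3, 12, 5, 20, 11, 18, 16, 10, 7, 4, 14, 13, 15, 9, 19, 8, 17, 6, 21],
  [0, 2, 1, 4, 3, 5, 6, 7, 9, 8, 11, 10, 12, 13, 15, 14, 17, 16, 19, 18, 21, 20],
  [0, 2, 1, 5, 4, 3, 20, 8, 7, 9, 15, 18, 12, 17, 19, 10, 16, 13, 11, 14, 6, 21],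
  [0, 2, 1, 15, 16, 10, 20, 7, 8, 12, 5, 11, 9, 19, 17, 3, 4, 14, 18, 13, 6, 21],
  [0, 2, 1, 18, 19, 13, 6, 12, 8, 9, 16, 17, 7, 5, 14, 15, 10, 11, 3, 4, 21, 20],
  [0, 2, 1, 19, 18, 7, 6, 5, 14, 15, 10, 11, 13, 12, 8, 9, 16, 17, 4, 3, 21, 20],
  [0, 6, 3, 10, 8, 7, 4, 15, 12, 16, 20, 11, 1, 17, 21, 9, 5, 14, 2, 13, 18, 19],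
  [0, 12, 20, 16, 7, 11, 3, 13, 19, 4, 10, 21, 1, 9, 18, 6, 15, 5, 14, 2, 8, 17],
  [0, 17, 5, 3, 11, 19, 9, 10, 14, 8, 4, 12, 7, 20, 15, 6, 21, 16, 1, 13, 2, 18],
  [0, 20, 6, 3, 16, 5, 2, 18, 11, 12, 10, 8, 9, 17, 19, 15, 4, 13, 7, 14, 1, 21],
  [0, 21, 6, 3, 14, 11, 2, 19, 8, 10, 9, 5, 12, 15, 4, 13, 18, 17, 16, 7, 20, 1],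
  [1, 0, 2, 3, 4, 12, 20, 15, 14, 13, 19, 11, 5, 9, 8, 7, 18, 17, 16, 10, 6, 21],
  [1, 0, 2, 3, 5, 4, 6, 8, 7, 9, 10, 13, 12, 11, 18, 16, 15, 19, 14, 17, 21, 20],
  [1, 0, 2, 4, 3, 5, 20, 9, 8, 7, 18, 17, 12, 15, 14, 13, 19, 11, 10, 16, 6, 21],
  [1, 0, 2, 8, 17, 11, 21, 15, 13, 5, 12, 19, 14, 16, 18, 4, 3, 7, 10, 9, 20, 6],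
  [1, 0, 2, 9, 16, 15, 6, 19, 17, 3, 12, 11, 10, 13, 14, 5, 4, 8, 18, 7, 21, 20],
  [1, 0, 2, 10, 15, 16, 6, 7, 8, 12, 3, 14, 9, 18, 11, 4, 5, 17, 13, 19, 21, 20],
  [1, 0, 2, 11, 17, 14, 20, 7, 12, 9, 16, 3, 8, 13, 5, 15, 10, 4, 19, 18, 6, 21],
  [1, 0, 2, 17, 11, 8, 20, 13, 5, 15, 10, 4, 14, 7, 12, 9, 16, 3, 18, 19, 6, 21],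
  [1, 0, 3, 2, 4, 5, 9, 15, 16, 6, 10, 21, 12, 20, 18, 7, 8, 17, 14, 19, 13, 11],
  [1, 0, 6, 3, 8, 7, 2, 5, 4, 9, 12, 13, 10, 11, 14, 19, 17, 16, 18, 15, 20, 21],
  [1, 0, 6, 9, 19, 17, 2, 16, 15, 3, 10, 11, 12, 13, 18, 8, 7, 5, 14, 4, 20, 21],
  [1, 0, 6, 14, 4, 16, 2, 17, 8, 18, 11, 10, 13, 12, 3, 15, 5, 7, 9, 19, 20, 21],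
  [1, 0, 21, 3, 17, 18, 6, 7, 10, 13, 8, 11, 16, 9, 19, 15, 12, 4, 5, 14, 20, 2],
  [1, 0, 21, 3, 18, 16, 2, 12, 5, 11, 4, 9, 17, 13, 7, 10, 19, 14, 15, 8, 6, 20],
  [1, 2, 6, 3, 11, 16, 0, 5, 12, 18, 4, 15, 19, 8, 14, 10, 17, 7, 9, 13, 21, 20],
  [2, 1, 21, 3, 10, 14, 6, 11, 19, 8, 16, 15, 13, 18, 17, 7, 4, 5, 12, 9, 20, 0],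
  [2, 6, 1, 3, 16, 19, 0, 15, 17, 9, 13, 10, 11, 12, 18, 5, 8, 4, 14, 7, 21, 20],
  [2, 21, 1, 3, 14, 10, 0, 8, 19, 11, 9, 17, 13, 4, 15, 12, 18, 5, 7, 16, 20, 6],
  [2, 21, 10, 15, 8, 6, 18, 14, 0, 9, 4, 7, 11, 13, 17, 5, 20, 12, 3, 1, 19, 16],
  [4, 3, 11, 16, 0, 8, 21, 19, 5, 1, 14, 10, 15, 20, 13, 18, 7, 6, 12, 9, 2, 17],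
  [6, 0, 2, 3, 17, 13, 1, 10, 7, 18, 8, 4, 15, 19, 9, 16, 12, 11, 14, 5, 20, 21],
  [6, 1, 2, 3, 19, 11, 0, 10, 8, 14, 7, 5, 16, 17, 9, 15, 12, 13, 18, 4, 21, 20],
  [6, 20, 21, 3, 19, 17, 0, 16, 9, 15, 5, 7, 10, 11, 8, 14, 13, 12, 18, 4, 2, 1],
  [10, 17, 16, 21, 13, 4, 11, 18, 5, 1, 14, 8, 15, 9, 2, 7, 19, 3, 20, 12, 0, 6],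
  [15, 14, 2, 3, 9, 5, 17, 8, 7, 4, 21, 12, 11, 13, 1, 0, 18, 6, 16, 19, 20, 10],
  [15, 14, 6, 12, 2, 1, 0, 17, 16, 13, 5, 3, 7, 4, 18, 20, 21, 10, 19, 11, 8, 9],
  [15, 14, 18, 9, 17, 1, 19, 10, 21, 8, 12, 0, 13, 6, 4, 20, 11, 2, 3, 16, 7, 5],
  [16, 10, 3, 0, 13, 19, 20, 14, 21, 17, 8, 11, 12, 6, 7, 5, 2, 9, 15, 18, 4, 1],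
  [17, 1, 13, 8, 3, 4, 12, 5, 7, 9, 18, 21, 19, 10, 11, 14, 15, 6, 20, 0, 2, 16],
  [17, 3, 4, 10, 9, 0, 21, 19, 20, 7, 6, 18, 14, 13, 5, 16, 12, 15, 1, 8, 2, 11],
  [20, 1, 2, 3, 9, 7, 21, 5, 8, 4, 11, 10, 17, 16, 19, 15, 13, 12, 18, 14, 0, 6],
  [20, 6, 21, 3, 17, 19, 0, 9, 16, 15, 5, 11, 10, 7, 18, 13, 14, 4, 8, 12, 1, 2],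
  [20, 11, 19, 12, 4, 3, 18, 14, 15, 13, 8, 10, 9, 21, 16, 0, 6, 5, 2, 7, 1, 17],
  [20, 15, 14, 0, 19, 3, 10, 4, 6, 18, 12, 13, 1, 16, 5, 8, 11, 21, 9, 7, 2, 17],
  [20, 17, 4, 3, 18, 15, 9, 1, 2, 8, 7, 0, 5, 12, 16, 11, 10, 19, 21, 14, 13, 6],
  [21, 0, 1, 3, 16, 18, 6, 12, 11, 5, 14, 10, 17, 15, 19, 9, 7, 4, 13, 8, 2, 20],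
  [21, 1, 2, 3, 10, 13, 0, 17, 18, 7, 16, 12, 14, 19, 11, 8, 4, 9, 15, 5, 20, 6],
  [21, 1, 2, 15, 19, 5, 20, 7, 18, 14, 10, 11, 17, 16, 9, 3, 13, 12, 8, 4, 6, 0],
  [21, 2, 1, 3, 13, 10, 6, 7, 18, 17, 5, 11, 14, 4, 12, 15, 19, 9, 8, 16, 20, 0],
  [21, 16, 11, 10, 7, 9, 14, 20, 0, 19, 8, 2, 3, 18, 13, 17, 12, 5, 6, 4, 15, 1],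
  [21, 17, 4, 20, 14, 12, 3, 19, 6, 16, 10, 5, 1, 7, 8, 13, 15, 0, 9, 18, 2, 11],
  [21, 20, 6, 3, 17, 19, 2, 16, 15, 9, 12, 14, 10, 18, 13, 7, 8, 5, 11, 4, 0, 1]]

/-- the permutations of the base by the two outer involutions -/
def outPerm : List (List ℕ) :=
  [[6, 1, 2, 4, 3, 7, 0, 5, 9, 8, 10, 11, 13, 12, 15, 14, 16, 17, 19, 18, 20, 21],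
  [3, 17, 21, 0, 6, 7, 4, 5, 13, 12, 16, 20, 9, 8, 15, 14, 10, 1, 19, 18, 11, 2]]


end Cfsg.Agent.H39.Fi22Invol.Data
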