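import Cfsg.Agent.H39.Fi22Invol.TreeDef

/-!
The search tree for involutions of the base of 22.
-/

set_option autoImplicit false
set_option maxRecDepth 100000

namespace Cfsg.Agent.H39.Fi22Invol.Data

/-- a subtree -/
def sub0 : PTr :=
  (.node 3 [] [11, 40] (.kid 3 [[]] (.node 4 [(37, 21, 0, 3, 6), (44, 58, 1, 3, 20)] [] (.kid 15 [[]] (.node 5 [(11, 11, 2, 4, 6), (9, 13, 0, 2, 3)] [] (.kid 16 [[]] (.node 7 [(9, 13, 0, 2, 3), (0, 36, 3, 4, 5)] [] (.kid 17 [[]] (.node 8 [(0, 36, 3, 4, 5), (2, 2, 2, 3, 6)] [] (.kid 19 [[]] (.node 9 [(0, 36, 3, 4, 5)] [] (.kid 9 [[]] (.node 10 [(44, 58, 1, 3, 4)] [] (.kid 10 [[]] (.node 11 [(1, 17, 1, 2, 5)] [] (.kid 11 [[]] (.node 12 [(2, 2, 2, 3, 6)] [] (.kid 12 [[]] (.node 13 [(4, 31, 0, 2, 4)] [] (.kid 13 [[]] (.node 14 [(7, 28, 0, 6,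 8)] [] (.kid 14 [[]] (.node 18 [] [] (.kid 18 [[]] (.outer 0 19) .nil)) .nil)) .nil)) .nil)) .nil)) .nil)) .nil)) .nil)) .nil)) .nil)) .nil)) (.kid 4 [[], [0, 1], [0, 1, 0, 1], [1, 0], [0], [1], [1, 0, 1], [0, 1, 0]] (.node 5 [(58, 44, 0, 3, 21), (37, 44, 0, 3, 4)] [] .nil) (.kid 9 [[]] (.node 4 [(28, 37, 1, 2, 9), (44, 60, 1, 3, 20)] [] (.kid 4 [[]] (.node 5 [(0, 0, 3, 4, 9), (11, 11, 2, 4, 6)] [] (.kid 5 [[]] (.node 7 [(0, 0, 3, 4, 5), (1, 6, 1, 2, 5)] [] (.kid 7 [[]] (.node 8 [(0, 0, 3, 4, 5)] [] (.kid 8 [[]] (.node 10 [(1, 6, 1, 2, 5), (2, 2, 2, 3, 6)] [] (.kid 12 [[]] (.node 11 [(1, 6, 1, 2, 5)] [] (.kid 13 [[]] (.node 14 [(40, 66, 0, 4, 5)] [] (.kid 18 [[]] (.node 15 [(7, 21, 0, 6, 8)] [] (.kid 15 [[]] (.node 16 [(9, 23, 0, 2, 3)] [] (.kid 16 [[]] (.node 17 [(13,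 25, 1, 3, 5)] [] (.kid 17 [[]] (.node 19 [] [] (.kid 19 [[]] (.outer 0 49) .nil)) .nil)) .nil)) .nil)) .nil)) .nil)) .nil)) .nil)) .nil)) .nil)) .nil)) (.kid 10 [[], [1, 1, 1], [1, 1], [1], [0, 1], [0]] (.node 4 [(44, 58, 1, 3, 10), (4, 13, 0, 2, 10)] [] (.kid 5 [[]] (.node 7 [(1, 37, 1, 2, 5), (0, 35, 3, 4, 5)] [] (.kid 19 [[]] (.node 8 [(0, 35, 3, 4, 5), (2, 2, 2, 3, 6)] [] (.kid 17 [[]] (.node 9 [(0, 35, 3, 4, 5)] [] (.kid 12 [[]] (.node 11 [(1, 37, 1, 2, 5)] [] (.kid 18 [[]] (.node 13 [(4, 13, 0, 2, 4)] [] (.kid 14 [[]] (.node 15 [(7, 18, 0, 6, 8)] [] (.kid 16 [[]] (.outer 1 50) .nil)) .nil)) .nil)) .nil)) .nil)) .nil)) .nil)) .nil)))))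

/-- a subtree -/
def sub1 : PTr :=
  (.node 3 [] [5, 25, 40] (.kid 3 [[]] (.node 4 [(37, 21, 0, 3, 6), (44, 46, 1, 3, 20)] [] (.kid 8 [[]] (.node 5 [(0, 0, 3, 4, 8), (11, 34, 2, 4, 6)] [] (.kid 7 [[]] (.node 9 [(0, 0, 3, 4, 5)] [] (.kid 9 [[]] (.node 10 [(1, 6, 1, 2, 5), (2, 2, 2, 3, 6)] [] (.kid 12 [[]] (.node 11 [(1, 6, 1, 2, 5)] [] (.kid 13 [[]] (.node 14 [(40, 41, 0, 4, 5)] [] (.kid 14 [[]] (.node 15 [(7, 28, 0, 6, 8)] [] (.kid 19 [[]] (.node 16 [(9, 13, 0, 2, 3)] [] (.kid 17 [[]] (.node 18 [] [] (.kid 18 [[]] (.inner 33) .nil)) .nil)) .nil)) .nil)) .nil)) .nil)) .nil)) .nil)) .nil)) (.kid 4 [[], [1], [0], [0, 1], [0, 2], [2], [0, 1, 2], [1, 2]] (.node 5 [(40, 44, 0, 4, 20), (37, 44, 0, 3, 4)] [] .nil) (.kid 9 [[]] (.node 4 [(28, 37, 1, 2, 9), (44, 52, 1, 3, 20)]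 [] (.kid 19 [[]] (.node 5 [(53, 47, 2, 3, 19), (0, 36, 3, 4, 9)] [] (.kid 17 [[]] (.node 7 [(0, 36, 3, 4, 5), (1, 17, 1, 2, 5)] [] (.kid 16 [[]] (.node 8 [(0, 36, 3, 4, 5)] [] (.kid 15 [[]] (.node 10 [(44, 52, 1, 3, 4)] [] (.kid 10 [[]] (.node 11 [(1, 17, 1, 2, 5)] [] (.kid 11 [[]] (.node 12 [(2, 2, 2, 3, 6)] [] (.kid 12 [[]] (.node 13 [(4, 31, 0, 2, 4)] [] (.kid 13 [[]] (.node 14 [(7, 21, 0, 6, 8)] [] (.kid 18 [[]] (.inner 34) .nil)) .nil)) .nil)) .nil)) .nil)) .nil)) .nil)) .nil)) .nil)) (.kid 10 [[], [0, 2], [0], [2]] (.node 4 [(44, 58, 1, 3, 10), (56, 64, 6, 10, 21)] [] .nil) (.kid 14 [[], [0]] (.node 4 [(28, 37, 1, 2, 14), (40, 44, 0, 14, 20)] [] (.kid 4 [[]] (.node 5 [(13, 9, 1, 3, 6), (11, 11, 2, 4, 6)] [] (.kid 16 [[]] (.node 7 [(9, 13, 0, 2, 3)] [] (.kid 17 [[]]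 (.node 8 [(0, 27, 3, 4, 5), (2, 20, 2, 3, 6)] [] (.kid 8 [[]] (.node 9 [(0, 27, 3, 4, 5)] [] (.kid 18 [[]] (.node 10 [(44, 40, 1, 3, 4)] [] (.kid 11 [[]] (.node 12 [(2, 20, 2, 3, 6)] [] (.kid 13 [[]] (.node 15 [(7, 21, 0, 6, 8)] [] (.kid 15 [[]] (.node 19 [] [] (.kid 19 [[]] (.inner 35) .nil)) .nil)) .nil)) .nil)) .nil)) .nil)) .nil)) .nil)) .nil)) .nil))))))

/-- a subtree -/
def sub2 : PTr :=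
  (.node 6 [(72, 5, 0, 1, 2)] [25] (.kid 9 [[]] (.node 14 [(7, 23, 0, 6, 9), (9, 21, 0, 2, 3)] [] (.kid 18 [[]] (.node 4 [(28, 37, 1, 2, 9)] [] (.kid 4 [[]] (.node 5 [(13, 25, 1, 3, 6), (0, 11, 3, 4, 9)] [] (.kid 5 [[]] (.node 7 [(0, 11, 3, 4, 5), (1, 58, 1, 2, 5)] [] (.kid 15 [[]] (.node 8 [(0, 11, 3, 4, 5)] [] (.kid 16 [[]] (.node 10 [(1, 58, 1, 2, 5), (2, 2, 2, 3, 6)] [] (.kid 10 [[]] (.node 11 [(1, 58, 1, 2, 5)] [] (.kid 21 [[]] (.node 12 [(2, 2, 2, 3, 6)] [] (.kid 12 [[]] (.node 13 [(4, 44, 0, 2, 4)] [] (.kid 20 [[]] (.node 17 [(13, 25, 1, 3, 5)] [] (.kid 17 [[]] (.node 19 [] [] (.kid 19 [[]] (.inner 32) .nil)) .nil)) .nil)) .nil)) .nil)) .nil)) .nil)) .nil)) .nil)) (.kid 19 [[]] (.node 5 [(13, 25, 1, 3, 6), (0, 34, 3, 4, 9)] [] (.kid 17 [[]] (.node 7 [(0, 34, 3,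 4, 5), (1, 46, 1, 2, 5)] [] (.kid 8 [[]] (.node 10 [(1, 46, 1, 2, 5), (2, 2, 2, 3, 6)] [] (.kid 12 [[]] (.node 11 [(1, 46, 1, 2, 5)] [] (.kid 20 [[]] (.node 13 [(4, 69, 0, 2, 4)] [] (.kid 21 [[]] (.node 15 [(7, 23, 0, 6, 8)] [] (.kid 16 [[]] (.outer 1 52) .nil)) .nil)) .nil)) .nil)) .nil)) .nil)) .nil))) .nil)) (.kid 11 [[], [0]] (.node 4 [(3, 17, 1, 6, 11), (37, 1, 0, 3, 6)] [] (.kid 10 [[]] (.node 5 [(1, 37, 1, 2, 10), (9, 21, 0, 2, 3)] [] (.kid 19 [[]] (.node 7 [(1, 37, 1, 2, 5)] [] (.kid 18 [[]] (.node 8 [(0, 71, 3, 4, 5), (2, 64, 2, 3, 6)] [] (.kid 16 [[]] (.node 9 [(0, 71, 3, 4, 5)] [] (.kid 21 [[]] (.node 12 [(2, 64, 2, 3, 6)] [] (.kid 17 [[]] (.node 13 [(4, 44, 0, 2, 4)] [] (.kid 20 [[]] (.node 14 [(9, 21, 0, 2, 3)] [] (.kid 15 [[]] (.outer 1 51) .nil)) .nil))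 .nil)) .nil)) .nil)) .nil)) .nil)) .nil)) .nil)))

/-- a subtree -/
def sub3 : PTr :=
  (.node 3 [] [55, 36] (.kid 3 [[]] (.node 4 [(37, 44, 0, 3, 6), (44, 37, 1, 3, 20)] [] (.kid 4 [[]] (.node 5 [(11, 50, 2, 4, 6), (13, 46, 1, 3, 6)] [] (.kid 12 [[]] (.node 7 [(6, 43, 0, 5, 6), (0, 8, 3, 4, 5)] [] (.kid 15 [[]] (.node 8 [(0, 8, 3, 4, 5), (2, 53, 2, 3, 6)] [] (.kid 14 [[]] (.node 9 [(0, 8, 3, 4, 5)] [] (.kid 13 [[]] (.node 10 [(2, 53, 2, 3, 6)] [] (.kid 19 [[]] (.node 11 [(1, 30, 1, 2, 5)] [] (.kid 11 [[]] (.node 16 [(9, 21, 0, 2, 3)] [] (.kid 18 [[]] (.node 17 [] [] (.kid 17 [[]] (.inner 24) .nil)) .nil)) .nil)) .nil)) .nil)) .nil)) .nil)) .nil)) .nil)) (.kid 4 [[], [0]] (.node 5 [(11, 53, 2, 4, 6), (13, 40, 1, 3, 6)] [] (.kid 5 [[]] (.node 7 [(0, 0, 3, 4, 5), (1, 25,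 1, 2, 5)] [] (.kid 9 [[]] (.node 8 [(0, 0, 3, 4, 5)] [] (.kid 8 [[]] (.node 10 [(1, 25, 1, 2, 5), (2, 50, 2, 3, 6)] [] (.kid 18 [[]] (.node 11 [(1, 25, 1, 2, 5)] [] (.kid 17 [[]] (.node 12 [(2, 50, 2, 3, 6)] [] (.kid 12 [[]] (.node 13 [(4, 21, 0, 2, 4)] [] (.kid 15 [[]] (.node 14 [(7, 41, 0, 6, 8)] [] (.kid 14 [[]] (.node 16 [(9, 28, 0, 2, 3)] [] (.kid 19 [[]] (.inner 26) .nil)) .nil)) .nil)) .nil)) .nil)) .nil)) .nil)) .nil)) .nil)) (.kid 5 [[], [1, 0], [0, 0, 0], [0, 0], [0, 1], [0, 0, 1], [1], [0]] (.node 4 [(11, 53, 2, 5, 6), (2, 53, 2, 3, 6)] [] .nil) (.kid 7 [[], [0], [0, 1], [0, 0]] (.node 4 [(15, 5, 0, 1, 7), (37, 41, 0, 3, 6), (34, 53, 2, 6, 7)] [] .nil) (.kid 11 [[]] (.node 4 [(64, 64, 2, 3, 11), (3, 46, 1, 6, 11)] [] (.kid 17 [[]] (.node 5 [(13, 40, 1, 3, 6),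 (1, 9, 1, 2, 11)] [] (.kid 14 [[]] (.node 7 [(1, 9, 1, 2, 5), (0, 14, 3, 4, 5)] [] (.kid 7 [[]] (.node 8 [(0, 14, 3, 4, 5), (2, 45, 2, 3, 6)] [] (.kid 12 [[]] (.node 9 [(0, 14, 3, 4, 5)] [] (.kid 9 [[]] (.node 10 [(1, 9, 1, 2, 5)] [] (.kid 16 [[]] (.node 13 [(4, 18, 0, 2, 4)] [] (.kid 13 [[]] (.node 15 [(7, 43, 0, 6, 8)] [] (.kid 15 [[]] (.node 18 [(19, 32, 0, 1, 10)] [] (.kid 19 [[]] (.inner 30) .nil)) .nil)) .nil)) .nil)) .nil)) .nil)) .nil)) .nil)) .nil)) .nil))))))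

/-- a subtree -/
def sub4 : PTr :=
  (.node 3 [] [5, 25, 65] (.kid 3 [[]] (.node 4 [(37, 13, 0, 3, 6), (44, 58, 1, 3, 20)] [] (.kid 5 [[]] (.node 7 [(0, 0, 3, 4, 5), (1, 4, 1, 2, 5)] [] (.kid 8 [[]] (.node 9 [(0, 0, 3, 4, 5)] [] (.kid 9 [[]] (.node 10 [(1, 4, 1, 2, 5), (2, 2, 2, 3, 6)] [] (.kid 10 [[]] (.node 11 [(1, 4, 1, 2, 5)] [] (.kid 13 [[]] (.node 12 [(2, 2, 2, 3, 6)] [] (.kid 12 [[]] (.node 14 [(40, 66, 0, 4, 5)] [] (.kid 18 [[]] (.node 15 [(7, 23, 0, 6, 8)] [] (.kid 16 [[]] (.node 17 [(13, 37, 1, 3, 5)] [] (.kid 19 [[]] (.inner 25) .nil)) .nil)) .nil)) .nil)) .nil)) .nil)) .nil)) .nil)) .nil)) (.kid 4 [[], [1], [0], [0, 1], [2, 0], [0, 2], [2], [1, 2]] (.node 5 [(13, 37, 1, 3, 6), (3, 37, 1, 4, 6)] [] .nil) (.kid 9 [[]] (.node 4 [(28, 9, 1, 2, 9), (44, 60, 1,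 3, 20)] [] (.kid 16 [[]] (.node 5 [(11, 11, 2, 4, 6), (0, 36, 3, 4, 9)] [] (.kid 15 [[]] (.node 7 [(0, 36, 3, 4, 5), (1, 30, 1, 2, 5)] [] (.kid 19 [[]] (.node 8 [(0, 36, 3, 4, 5)] [] (.kid 17 [[]] (.node 10 [(44, 60, 1, 3, 4)] [] (.kid 12 [[]] (.node 11 [(1, 30, 1, 2, 5)] [] (.kid 11 [[]] (.node 13 [(4, 18, 0, 2, 4)] [] (.kid 13 [[]] (.node 14 [(7, 13, 0, 6, 8)] [] (.kid 14 [[]] (.node 18 [] [] (.kid 18 [[]] (.inner 28) .nil)) .nil)) .nil)) .nil)) .nil)) .nil)) .nil)) .nil)) .nil)) (.kid 10 [[], [0]] (.node 4 [(44, 58, 1, 3, 10), (4, 21, 0, 2, 10)] [] (.kid 15 [[]] (.node 5 [(58, 44, 0, 3, 10)] [] (.kid 16 [[]] (.node 7 [(1, 9, 1, 2, 5), (0, 12, 3, 4, 5)] [] (.kid 7 [[]] (.node 8 [(0, 12, 3, 4, 5), (2, 2, 2, 3, 6)] [] (.kid 8 [[]] (.node 9 [(0, 12, 3, 4, 5)] [] (.kid 12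 [[]] (.node 11 [(1, 9, 1, 2, 5)] [] (.kid 14 [[]] (.node 13 [(4, 21, 0, 2, 4)] [] (.kid 18 [[]] (.node 17 [(13, 17, 1, 3, 5)] [] (.kid 17 [[]] (.node 19 [] [] (.kid 19 [[]] (.inner 29) .nil)) .nil)) .nil)) .nil)) .nil)) .nil)) .nil)) .nil)) .nil)) (.kid 11 [[], [1], [2], [1, 2]] (.node 4 [(64, 64, 2, 3, 11), (40, 69, 0, 11, 20)] [] .nil) .nil))))))

/-- a subtree -/
def sub5 : PTr :=
  (.node 6 [(72, 72, 0, 1, 2)] [25] (.kid 6 [[]] (.node 20 [(72, 72, 0, 1, 2)] [] (.kid 20 [[]] (.node 21 [(72, 72, 0, 1, 2)] [] (.kid 21 [[]] (.node 3 [] [11, 5, 25, 37] (.kid 3 [[]] (.node 4 [(37, 13, 0, 3, 6), (44, 46, 1, 3, 20)] [] (.kid 17 [[]] (.node 5 [(13, 37, 1, 3, 6), (9, 21, 0, 2, 3)] [] (.kid 19 [[]] (.node 7 [(15, 15, 0, 1, 4), (0, 36, 3, 4, 5)] [] (.kid 15 [[]] (.node 8 [(34,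 11, 2, 6, 7)] [] (.kid 16 [[]] (.node 9 [(0, 36, 3, 4, 5)] [] (.kid 9 [[]] (.node 10 [(44, 46, 1, 3, 4)] [] (.kid 12 [[]] (.node 11 [(1, 30, 1, 2, 5)] [] (.kid 11 [[]] (.node 13 [(4, 18, 0, 2, 4)] [] (.kid 13 [[]] (.node 14 [(7, 23, 0, 6, 8)] [] (.kid 18 [[]] (.outer 0 43) .nil)) .nil)) .nil)) .nil)) .nil)) .nil)) .nil)) .nil)) .nil)) (.kid 4 [[], [2], [1], [1, 2], [0, 3], [1, 3], [3, 1], [0], [0, 2], [0, 1], [3], [2, 0]] (.node 5 [(13, 37, 1, 3, 6), (3, 37, 1, 4, 6)] [] .nil) (.kid 9 [[], [3], [3, 2]] (.node 4 [(28, 9, 1, 2, 9), (44, 52, 1, 3, 20)] [] (.kid 7 [[]] (.node 5 [(0, 0, 3, 4, 7), (1, 4, 1, 2, 7)] [] (.kid 8 [[]] (.node 10 [(1, 4, 1, 2, 5), (2, 2, 2, 3, 6)] [] (.kid 10 [[]] (.node 11 [(1, 4, 1, 2, 5)] [] (.kid 13 [[]] (.node 12 [(2, 2, 2, 3, 6)] [] (.kid 12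 [[]] (.node 14 [(40, 41, 0, 4, 5)] [] (.kid 14 [[]] (.node 15 [(7, 13, 0, 6, 8)] [] (.kid 17 [[]] (.node 16 [(9, 28, 0, 2, 3)] [] (.kid 19 [[]] (.node 18 [] [] (.kid 18 [[]] (.outer 0 48) .nil)) .nil)) .nil)) .nil)) .nil)) .nil)) .nil)) .nil)) .nil)) .nil)))) .nil)) (.kid 21 [[]] sub4 .nil))) (.kid 20 [[], [0]] (.node 21 [(72, 72, 0, 1, 2)] [] (.kid 21 [[]] sub3 .nil)) .nil)))

/-- a subtree -/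
def sub6 : PTr :=
  (.node 3 [] [62, 22] (.kid 3 [[]] (.node 4 [(37, 46, 0, 3, 6), (44, 2, 1, 3, 20)] [] (.kid 12 [[]] (.node 5 [(6, 40, 0, 6, 12), (11, 43, 2, 4, 6)] [] (.kid 5 [[]] (.node 7 [(6, 40, 0, 5, 6), (0, 24, 3, 4, 5)] [] (.kid 11 [[]] (.node 8 [(3, 50, 1, 4, 6)] [] (.kid 18 [[]] (.node 9 [(0, 24, 3, 4, 5)] [] (.kid 16 [[]] (.node 10 [(1, 1, 1, 2, 5)] [] (.kid 10 [[]] (.node 13 [(4, 19, 0, 2, 4)] [] (.kid 14 [[]] (.node 15 [(7, 51, 0, 6, 8)] [] (.kid 15 [[]] (.node 17 [(13, 53, 1, 3, 5)] [] (.kid 19 [[]] (.inner 13) .nil)) .nil)) .nil)) .nil)) .nil)) .nil)) .nil)) .nil)) .nil)) (.kid 4 [[], [0, 1, 0], [0, 1, 0, 1], [0], [1, 0, 1], [1], [0, 1], [1, 0]] (.node 5 [(11, 44, 2, 4, 6), (2, 44, 2, 3, 6)] [] .nil) (.kid 5 [[], [0]] (.node 4 [(11, 44, 2, 5, 6), (37, 40,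 0, 3, 6)] [] (.kid 4 [[]] (.node 7 [(0, 0, 3, 4, 5), (1, 21, 1, 2, 5)] [] (.kid 8 [[]] (.node 9 [(0, 0, 3, 4, 5)] [] (.kid 9 [[]] (.node 10 [(1, 21, 1, 2, 5), (2, 43, 2, 3, 6)] [] (.kid 15 [[]] (.node 11 [(1, 21, 1, 2, 5)] [] (.kid 18 [[]] (.node 12 [(2, 43, 2, 3, 6)] [] (.kid 12 [[]] (.node 13 [(4, 15, 0, 2, 4)] [] (.kid 17 [[]] (.node 14 [(7, 52, 0, 6, 8)] [] (.kid 19 [[]] (.node 16 [] [] (.kid 16 [[]] (.inner 15) .nil)) .nil)) .nil)) .nil)) .nil)) .nil)) .nil)) .nil)) .nil)) (.kid 7 [[], [1, 0], [1, 0, 1], [1]] (.node 4 [(15, 9, 0, 1, 7), (5, 9, 0, 1, 3)] [] .nil) (.kid 15 [[]] (.node 4 [(11, 44, 2, 6, 15), (15, 9, 0, 1, 15)] [] (.kid 16 [[]] (.node 5 [(11, 44, 2, 4, 6)] [] (.kid 10 [[]] (.node 7 [(1, 1, 1, 2, 5), (0, 12, 3, 4, 5)] [] (.kid 7 [[]] (.node 8 [(0, 12,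 3, 4, 5), (2, 43, 2, 3, 6)] [] (.kid 8 [[]] (.node 9 [(0, 12, 3, 4, 5)] [] (.kid 12 [[]] (.node 11 [(1, 1, 1, 2, 5)] [] (.kid 11 [[]] (.node 13 [(4, 32, 0, 2, 4)] [] (.kid 19 [[]] (.node 14 [(7, 46, 0, 6, 8)] [] (.kid 17 [[]] (.node 18 [] [] (.kid 18 [[]] (.inner 16) .nil)) .nil)) .nil)) .nil)) .nil)) .nil)) .nil)) .nil)) .nil)) .nil))))))

/-- a subtree -/
def sub7 : PTr :=
  (.node 3 [] [45, 46] (.kid 3 [[]] (.node 4 [(37, 37, 0, 3, 6), (44, 64, 1, 3, 20)] [] (.kid 4 [[]] (.node 5 [(11, 3, 2, 4, 6), (13, 2, 1, 3, 6)] [] (.kid 12 [[]] (.node 7 [(6, 6, 0, 5, 6), (0, 8, 3, 4, 5)] [] (.kid 13 [[]] (.node 8 [(0, 8, 3, 4, 5), (2, 13, 2, 3, 6)] [] (.kid 15 [[]] (.node 9 [(0, 8, 3, 4, 5)] [] (.kid 14 [[]] (.node 10 [(2, 13, 2, 3, 6)] [] (.kid 17 [[]] (.node 11 [(1, 18, 1, 2,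 5)] [] (.kid 16 [[]] (.node 18 [(19, 25, 0, 1, 10)] [] (.kid 18 [[]] (.node 19 [] [] (.kid 19 [[]] (.inner 12) .nil)) .nil)) .nil)) .nil)) .nil)) .nil)) .nil)) .nil)) .nil)) (.kid 4 [[], [0]] (.node 5 [(11, 13, 2, 4, 6), (13, 11, 1, 3, 6)] [] (.kid 5 [[]] (.node 7 [(0, 0, 3, 4, 5), (1, 1, 1, 2, 5)] [] (.kid 7 [[]] (.node 8 [(0, 0, 3, 4, 5), (2, 3, 2, 3, 6)] [] (.kid 9 [[]] (.node 10 [(1, 1, 1, 2, 5), (2, 3, 2, 3, 6)] [] (.kid 11 [[]] (.node 12 [(2, 3, 2, 3, 6)] [] (.kid 12 [[]] (.node 13 [(4, 5, 0, 2, 4)] [] (.kid 13 [[]] (.node 14 [(40, 58, 0, 4, 5)] [] (.kid 15 [[]] (.node 16 [(9, 15, 0, 2, 3)] [] (.kid 17 [[]] (.node 18 [(19, 30, 0, 1, 10)] [] (.kid 19 [[]] (.inner 14) .nil)) .nil)) .nil)) .nil)) .nil)) .nil)) .nil)) .nil)) .nil)) (.kid 5 [[], [0, 1], [0, 1, 0], [0],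 [1, 1], [1, 0], [0, 1, 1], [1]] (.node 4 [(11, 13, 2, 5, 6), (2, 13, 2, 3, 6)] [] .nil) (.kid 8 [[], [1], [1, 0], [1, 1]] (.node 4 [(3, 2, 1, 6, 8), (64, 41, 2, 3, 21)] [] .nil) (.kid 18 [[]] (.node 4 [(37, 37, 0, 3, 6), (44, 71, 1, 3, 20)] [] (.kid 19 [[]] (.node 5 [(53, 66, 2, 3, 19), (4, 32, 0, 2, 4)] [] (.kid 13 [[]] (.node 7 [(6, 6, 0, 5, 6), (0, 38, 3, 4, 5)] [] (.kid 12 [[]] (.node 8 [(0, 38, 3, 4, 5), (2, 23, 2, 3, 6)] [] (.kid 8 [[]] (.node 9 [(0, 38, 3, 4, 5)] [] (.kid 9 [[]] (.node 10 [(2, 23, 2, 3, 6)] [] (.kid 16 [[]] (.node 11 [(1, 18, 1, 2, 5)] [] (.kid 17 [[]] (.node 14 [(9, 19, 0, 2, 3)] [] (.kid 14 [[]] (.node 15 [] [] (.kid 15 [[]] (.inner 17) .nil)) .nil)) .nil)) .nil)) .nil)) .nil)) .nil)) .nil)) .nil)) .nil))))))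

/-- a subtree -/
def sub8 : PTr :=
  (.node 6 [(72, 72, 0, 1, 2)] [18] (.kid 6 [[]] (.node 20 [(72, 72, 0, 1, 2)] [] (.kid 20 [[]] (.node 21 [(72, 72, 0, 1, 2)] [] (.kid 21 [[]] (.node 3 [] [62, 60, 54] (.kid 3 [[]] (.node 4 [(37, 37, 0, 3, 6), (44, 53, 1, 3, 20)] [] (.kid 19 [[]] (.node 5 [(53, 44, 2, 3, 19), (4, 32, 0, 2, 4)] [] (.kid 10 [[]] (.node 7 [(1, 1, 1, 2, 5), (0, 29, 3, 4, 5)] [] (.kid 11 [[]] (.node 8 [(0, 29, 3, 4, 5), (2, 13, 2, 3, 6)] [] (.kid 8 [[]] (.node 9 [(0, 29, 3, 4, 5)] [] (.kid 14 [[]] (.node 12 [(2, 13, 2, 3, 6)] [] (.kid 17 [[]] (.node 13 [(4, 32, 0, 2, 4)] [] (.kid 16 [[]] (.node 15 [(7, 7, 0, 6, 8)] [] (.kid 15 [[]] (.node 18 [] [] (.kid 18 [[]] (.outer 0 53) .nil)) .nil)) .nil)) .nil)) .nil)) .nil)) .nil)) .nil)) .nil)) (.kid 4 [[], [1, 0],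 [2, 1], [2], [1], [1, 2], [1, 2, 1], [0], [0, 1, 2], [0, 2], [2, 0], [0, 1]] (.node 5 [(53, 44, 2, 3, 20), (11, 13, 2, 4, 6)] [] .nil) (.kid 8 [[], [0, 1], [0]] (.node 4 [(3, 2, 1, 6, 8), (4, 5, 0, 2, 8)] [] (.kid 9 [[]] (.node 5 [(0, 0, 3, 4, 8), (9, 32, 0, 2, 3)] [] (.kid 7 [[]] (.node 10 [(1, 1, 1, 2, 5), (2, 3, 2, 3, 6)] [] (.kid 11 [[]] (.node 12 [(2, 3, 2, 3, 6)] [] (.kid 12 [[]] (.node 13 [(4, 5, 0, 2, 4)] [] (.kid 13 [[]] (.node 14 [(40, 52, 0, 4, 5)] [] (.kid 19 [[]] (.node 15 [(7, 37, 0, 6, 8)] [] (.kid 18 [[]] (.node 16 [(9, 32, 0, 2, 3)] [] (.kid 16 [[]] (.node 17 [] [] (.kid 17 [[]] (.outer 0 57) .nil)) .nil)) .nil)) .nil)) .nil)) .nil)) .nil)) .nil)) .nil)) .nil)))) .nil)) (.kid 21 [[]] sub7 .nil))) (.kid 20 [[], [0]] (.node 21 [(72, 72, 0, 1, 2)] [] (.kid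 21 [[]] sub6 .nil)) .nil)))

/-- a subtree -/
def sub9 : PTr :=
  (.node 3 [] [5, 25, 11] (.kid 3 [[]] (.node 4 [(37, 9, 0, 3, 6), (44, 69, 1, 3, 20)] [] (.kid 7 [[]] (.node 5 [(0, 0, 3, 4, 7), (1, 3, 1, 2, 7)] [] (.kid 8 [[]] (.node 9 [(0, 0, 3, 4, 5)] [] (.kid 9 [[]] (.node 10 [(1, 3, 1, 2, 5), (2, 2, 2, 3, 6)] [] (.kid 12 [[]] (.node 11 [(1, 3, 1, 2, 5)] [] (.kid 11 [[]] (.node 13 [(4, 6, 0, 2, 4)] [] (.kid 13 [[]] (.node 14 [(40, 65, 0, 4, 5)] [] (.kid 18 [[]] (.node 15 [(7, 25, 0, 6, 8)] [] (.kid 17 [[]] (.node 16 [(9, 37, 0, 2, 3)] [] (.kid 19 [[]] (.inner 5) .nil)) .nil)) .nil)) .nil)) .nil)) .nil)) .nil)) .nil)) .nil)) (.kid 4 [[], [1], [0], [0, 1], [2], [2, 1], [0, 2], [1, 2]] (.node 5 [(66, 44, 1, 4, 21), (13, 28, 1, 3, 6)] [] .nil) (.kid 9 [[]] (.node 4 [(28,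 13, 1, 2, 9), (44, 63, 1, 3, 20)] [] (.kid 17 [[]] (.node 5 [(13, 28, 1, 3, 6), (0, 36, 3, 4, 9)] [] (.kid 19 [[]] (.node 7 [(0, 36, 3, 4, 5), (1, 31, 1, 2, 5)] [] (.kid 15 [[]] (.node 8 [(0, 36, 3, 4, 5)] [] (.kid 16 [[]] (.node 10 [(44, 63, 1, 3, 4)] [] (.kid 10 [[]] (.node 11 [(1, 31, 1, 2, 5)] [] (.kid 13 [[]] (.node 12 [(2, 2, 2, 3, 6)] [] (.kid 12 [[]] (.node 14 [(7, 9, 0, 6, 8)] [] (.kid 14 [[]] (.node 18 [] [] (.kid 18 [[]] (.inner 6) .nil)) .nil)) .nil)) .nil)) .nil)) .nil)) .nil)) .nil)) .nil)) (.kid 10 [[], [0], [0, 2], [2]] (.node 4 [(44, 44, 1, 3, 10), (56, 53, 6, 10, 21)] [] .nil) (.kid 11 [[], [1]] (.node 4 [(64, 42, 2, 3, 11), (3, 21, 1, 6, 11)] [] (.kid 15 [[]] (.node 5 [(11, 11, 2, 4, 6), (1, 13, 1, 2, 11)] [] (.kid 5 [[]] (.node 7 [(42, 64, 3, 6, 11)]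 [] (.kid 17 [[]] (.node 8 [(0, 16, 3, 4, 5), (2, 20, 2, 3, 6)] [] (.kid 8 [[]] (.node 9 [(0, 16, 3, 4, 5)] [] (.kid 13 [[]] (.node 10 [(1, 13, 1, 2, 5)] [] (.kid 14 [[]] (.node 12 [(2, 20, 2, 3, 6)] [] (.kid 18 [[]] (.node 16 [(9, 17, 0, 2, 3)] [] (.kid 16 [[]] (.node 19 [] [] (.kid 19 [[]] (.inner 7) .nil)) .nil)) .nil)) .nil)) .nil)) .nil)) .nil)) .nil)) .nil)) .nil))))))

/-- a subtree -/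
def sub10 : PTr :=
  (.node 6 [(72, 5, 0, 1, 2)] [25] (.kid 9 [[]] (.node 14 [(7, 7, 0, 6, 9), (9, 9, 0, 2, 3)] [] (.kid 14 [[]] (.node 18 [(19, 19, 0, 1, 14), (2, 2, 2, 3, 6)] [] (.kid 18 [[]] (.node 4 [(28, 13, 1, 2, 9)] [] (.kid 5 [[]] (.node 7 [(0, 11, 3, 4, 5), (1, 44, 1, 2, 5)] [] (.kid 16 [[]] (.node 8 [(0, 11, 3, 4, 5)] [] (.kid 15 [[]] (.node 10 [(1, 44, 1, 2, 5), (2, 2, 2, 3, 6)] [] (.kid 10 [[]] (.node 11 [(1, 44, 1, 2, 5)] [] (.kid 20 [[]] (.node 12 [(2, 2, 2, 3, 6)] [] (.kid 12 [[]] (.node 13 [(4, 58, 0, 2, 4)] [] (.kid 21 [[]] (.node 17 [(13, 28, 1, 3, 5)] [] (.kid 19 [[]] (.inner 3) .nil)) .nil)) .nil)) .nil)) .nil)) .nil)) .nil)) (.kid 17 [[]] (.node 5 [(13, 28, 1, 3, 6)] [] (.kid 19 [[]] (.node 7 [(0, 34, 3, 4, 5), (1, 69, 1, 2, 5)] [] (.kid 7 [[]] (.node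 8 [(0, 34, 3, 4, 5)] [] (.kid 8 [[]] (.node 10 [(1, 69, 1, 2, 5), (2, 2, 2, 3, 6)] [] (.kid 12 [[]] (.node 11 [(1, 69, 1, 2, 5)] [] (.kid 21 [[]] (.node 13 [(4, 46, 0, 2, 4)] [] (.kid 20 [[]] (.node 15 [(7, 7, 0, 6, 8)] [] (.kid 15 [[]] (.node 16 [] [] (.kid 16 [[]] (.outer 0 58) .nil)) .nil)) .nil)) .nil)) .nil)) .nil)) .nil)) .nil)) .nil))) .nil)) .nil)) (.kid 11 [[], [0]] (.node 4 [(3, 3, 1, 6, 11), (37, 30, 0, 3, 6)] [] (.kid 12 [[]] (.node 5 [(1, 13, 1, 2, 11), (11, 24, 2, 4, 6)] [] (.kid 5 [[]] (.node 7 [(1, 13, 1, 2, 5), (0, 57, 3, 4, 5)] [] (.kid 14 [[]] (.node 8 [(3, 3, 1, 4, 6)] [] (.kid 8 [[]] (.node 9 [(0, 57, 3, 4, 5)] [] (.kid 21 [[]] (.node 10 [(1, 13, 1, 2, 5)] [] (.kid 17 [[]] (.node 13 [(4, 46, 0, 2, 4)] [] (.kid 20 [[]] (.node 15 [(7, 65, 0, 6, 8)] []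 (.kid 18 [[]] (.node 16 [(9, 9, 0, 2, 3)] [] (.kid 16 [[]] (.node 19 [] [] (.kid 19 [[]] (.inner 4) .nil)) .nil)) .nil)) .nil)) .nil)) .nil)) .nil)) .nil)) .nil)) .nil)) .nil)))

/-- a subtree -/
def sub11 : PTr :=
  (.node 21 [(72, 72, 0, 1, 2)] [] (.kid 21 [[]] (.node 3 [] [41, 59] (.kid 3 [[]] (.node 4 [(37, 37, 0, 3, 6), (44, 44, 1, 3, 20)] [] (.kid 4 [[]] (.node 5 [(11, 11, 2, 4, 6), (13, 13, 1, 3, 6)] [] (.kid 5 [[]] (.node 7 [(0, 0, 3, 4, 5), (1, 1, 1, 2, 5)] [] (.kid 7 [[]] (.node 8 [(0, 0, 3, 4, 5), (2, 2, 2, 3, 6)] [] (.kid 8 [[]] (.node 9 [(0, 0, 3, 4, 5)] [] (.kid 9 [[]] (.node 10 [(1, 1, 1, 2, 5), (2, 2, 2, 3, 6)] [] (.kid 10 [[]] (.node 11 [(1, 1, 1, 2, 5)] [] (.kid 11 [[]] (.node 12 [(2, 2, 2, 3, 6)] [] (.kid 12 [[]] (.node 13 [(4, 4, 0, 2, 4)] [] (.kid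 13 [[]] (.node 14 [(40, 40, 0, 4, 5)] [] (.kid 14 [[]] (.node 15 [(7, 7, 0, 6, 8)] [] (.kid 15 [[]] (.node 16 [(9, 9, 0, 2, 3)] [] (.kid 16 [[]] (.node 17 [(13, 13, 1, 3, 5)] [] (.kid 17 [[]] (.node 18 [(19, 19, 0, 1, 10)] [] (.kid 18 [[]] (.node 19 [] [] (.kid 19 [[]] (.inner 0) .nil)) .nil)) .nil)) .nil)) .nil)) .nil)) .nil)) .nil)) .nil)) .nil)) .nil)) .nil)) .nil)) .nil)) .nil)) (.kid 4 [[], [0, 0, 1, 1], [1, 1], [0, 1, 1], [0, 0, 1], [0, 0, 1, 0, 1], [0, 0, 1, 0], [0, 0, 0], [1, 0, 1], [0], [0, 0], [1], [0, 0, 0, 1], [1, 0], [0, 1]] (.node 5 [(11, 2, 2, 4, 6), (13, 3, 1, 3, 6)] [] (.kid 12 [[]] (.node 7 [(6, 6, 0, 5, 6), (0, 8, 3, 4, 5)] [] (.kid 13 [[]] (.node 8 [(0, 8, 3, 4, 5), (2, 11, 2, 3, 6)] [] (.kid 14 [[]] (.node 9 [(0, 8, 3, 4, 5)] [] (.kid 15 [[]] (.node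 10 [(2, 11, 2, 3, 6)] [] (.kid 16 [[]] (.node 11 [(1, 18, 1, 2, 5)] [] (.kid 17 [[]] (.node 18 [(19, 32, 0, 1, 10)] [] (.kid 19 [[]] (.inner 1) .nil)) .nil)) .nil)) .nil)) .nil)) .nil)) .nil)) .nil))) .nil))

/-- a subtree -/
def sub12 : PTr :=
  (.node 6 [(72, 72, 0, 1, 2)] [18] (.kid 6 [[]] (.node 20 [(72, 72, 0, 1, 2)] [] (.kid 20 [[]] sub11 (.kid 21 [[]] (.node 3 [] [38, 44] (.kid 3 [[]] (.node 4 [(37, 37, 0, 3, 6), (44, 69, 1, 3, 20)] [] (.kid 19 [[]] (.node 5 [(53, 64, 2, 3, 19), (4, 30, 0, 2, 4)] [] (.kid 17 [[]] (.node 7 [(15, 32, 0, 1, 4), (0, 36, 3, 4, 5)] [] (.kid 16 [[]] (.node 8 [(32, 15, 0, 1, 5)] [] (.kid 15 [[]] (.node 9 [(0, 36, 3, 4, 5)] [] (.kid 9 [[]] (.node 10 [(44, 69, 1, 3, 4)] [] (.kid 12 [[]] (.node 11 [(1, 18, 1, 2, 5)] [] (.kid 13 [[]] (.node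 14 [(7, 7, 0, 6, 8)] [] (.kid 14 [[]] (.node 18 [] [] (.kid 18 [[]] (.outer 0 47) .nil)) .nil)) .nil)) .nil)) .nil)) .nil)) .nil)) .nil)) .nil)) (.kid 4 [[], [1, 0, 0], [1, 0], [0, 0, 0, 1], [0, 0, 0], [0], [0, 0, 1, 1], [1, 0, 0, 1], [0, 0], [0, 0, 1], [1], [0, 0, 1, 1, 0]] (.node 5 [(53, 64, 2, 3, 20), (11, 2, 2, 4, 6)] [] .nil) (.kid 9 [[], [0, 1], [0]] (.node 4 [(28, 21, 1, 2, 9), (44, 63, 1, 3, 20)] [] (.kid 8 [[]] (.node 5 [(0, 0, 3, 4, 8), (9, 25, 0, 2, 3)] [] (.kid 7 [[]] (.node 10 [(1, 1, 1, 2, 5), (2, 2, 2, 3, 6)] [] (.kid 10 [[]] (.node 11 [(1, 1, 1, 2, 5)] [] (.kid 11 [[]] (.node 12 [(2, 2, 2, 3, 6)] [] (.kid 12 [[]] (.node 13 [(4, 4, 0, 2, 4)] [] (.kid 13 [[]] (.node 14 [(40, 65, 0, 4, 5)] [] (.kid 18 [[]] (.node 15 [(7, 37, 0, 6, 8)] [] (.kid 19 [[]] (.node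 16 [(9, 25, 0, 2, 3)] [] (.kid 17 [[]] (.outer 0 61) .nil)) .nil)) .nil)) .nil)) .nil)) .nil)) .nil)) .nil)) .nil)) .nil)))) .nil))) (.kid 20 [[], [0]] (.node 21 [(72, 72, 0, 1, 2)] [] (.kid 21 [[]] (.node 3 [] [62, 39] (.kid 3 [[]] (.node 4 [(37, 46, 0, 3, 6), (44, 13, 1, 3, 20)] [] (.kid 17 [[]] (.node 5 [(13, 44, 1, 3, 6), (9, 9, 0, 2, 3)] [] (.kid 10 [[]] (.node 7 [(1, 1, 1, 2, 5), (0, 26, 3, 4, 5)] [] (.kid 7 [[]] (.node 8 [(0, 26, 3, 4, 5), (2, 53, 2, 3, 6)] [] (.kid 18 [[]] (.node 9 [(0, 26, 3, 4, 5)] [] (.kid 13 [[]] (.node 11 [(1, 1, 1, 2, 5)] [] (.kid 11 [[]] (.node 12 [(2, 53, 2, 3, 6)] [] (.kid 19 [[]] (.node 14 [(11, 48, 2, 4, 5)] [] (.kid 16 [[]] (.node 15 [] [] (.kid 15 [[]] (.outer 0 63) .nil)) .nil)) .nil)) .nil)) .nil)) .nil)) .nil)) .nil)) .nil)) (.kid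 4 [[], [1, 0], [0, 1, 0], [1, 1, 0, 1], [1], [0, 1, 1], [0], [1, 0, 1], [1, 1], [1, 0, 1, 1], [0, 1], [1, 1, 0]] (.node 5 [(13, 44, 1, 3, 6), (3, 44, 1, 4, 6)] [] .nil) (.kid 7 [[], [1], [1, 1]] (.node 4 [(15, 5, 0, 1, 7), (37, 52, 0, 3, 6)] [] (.kid 9 [[]] (.node 5 [(0, 0, 3, 4, 7), (1, 21, 1, 2, 7)] [] (.kid 8 [[]] (.node 10 [(1, 21, 1, 2, 5), (2, 50, 2, 3, 6)] [] (.kid 18 [[]] (.node 11 [(1, 21, 1, 2, 5)] [] (.kid 15 [[]] (.node 12 [(2, 50, 2, 3, 6)] [] (.kid 12 [[]] (.node 13 [(4, 25, 0, 2, 4)] [] (.kid 17 [[]] (.node 14 [(7, 40, 0, 6, 8)] [] (.kid 14 [[]] (.node 16 [(9, 9, 0, 2, 3)] [] (.kid 16 [[]] (.node 19 [] [] (.kid 19 [[]] (.outer 0 42) .nil)) .nil)) .nil)) .nil)) .nil)) .nil)) .nil)) .nil)) .nil)) .nil)))) .nil)) .nil)))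

/-- a subtree -/
def sub13 : PTr :=
  (.node 2 [] [31, 27, 2] (.kid 2 [[]] sub12 (.kid 3 [[], [2, 1, 2], [1, 0], [0, 1], [1], [1, 2, 1], [2, 1, 1], [1, 0, 1], [2, 0], [0, 2], [2], [0, 1, 1], [0, 2, 1], [0], [2, 1], [1, 2]] sub10 (.kid 6 [[], [0], [1]] (.node 20 [(72, 72, 0, 1, 2)] [] (.kid 20 [[]] (.node 21 [(72, 72, 0, 1, 2)] [] (.kid 21 [[]] (.node 3 [] [25, 23, 5] (.kid 3 [[]] (.node 4 [(37, 9, 0, 3, 6), (44, 44, 1, 3, 20)] [] (.kid 16 [[]] (.node 5 [(11, 11, 2, 4, 6), (13, 21, 1, 3, 6)] [] (.kid 15 [[]] (.node 7 [(9, 37, 0, 2, 3), (0, 36, 3, 4, 5)] [] (.kid 19 [[]] (.node 8 [(32, 15, 0, 1, 5)] [] (.kid 17 [[]] (.node 9 [(0, 36, 3, 4, 5)] [] (.kid 9 [[]] (.node 10 [(44, 44, 1, 3, 4)] [] (.kid 10 [[]] (.node 11 [(1, 31, 1, 2, 5)] [] (.kid 13 [[]] (.node 12 [(2, 2, 2,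 3, 6)] [] (.kid 12 [[]] (.node 14 [(7, 25, 0, 6, 8)] [] (.kid 18 [[]] (.outer 0 64) .nil)) .nil)) .nil)) .nil)) .nil)) .nil)) .nil)) .nil)) .nil)) (.kid 4 [[], [0], [2], [0, 2], [0, 1], [0, 1, 0], [1], [0, 1, 0, 1], [1, 0, 1], [2, 1, 0], [1, 0], [2, 1]] (.node 5 [(11, 2, 2, 4, 6), (13, 28, 1, 3, 6), (15, 5, 0, 1, 4)] [] .nil) (.kid 9 [[], [1], [1, 2]] (.node 4 [(28, 13, 1, 2, 9), (44, 43, 1, 3, 20)] [] (.kid 5 [[]] (.node 7 [(0, 0, 3, 4, 5), (1, 3, 1, 2, 5)] [] (.kid 8 [[]] (.node 10 [(1, 3, 1, 2, 5), (2, 2, 2, 3, 6)] [] (.kid 12 [[]] (.node 11 [(1, 3, 1, 2, 5)] [] (.kid 11 [[]] (.node 13 [(4, 6, 0, 2, 4)] [] (.kid 13 [[]] (.node 14 [(40, 40, 0, 4, 5)] [] (.kid 14 [[]] (.node 15 [(7, 9, 0, 6, 8)] [] (.kid 16 [[]] (.node 17 [(13, 28, 1, 3, 5)] [] (.kid 19 [[]] (.node 18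 [] [] (.kid 18 [[]] (.outer 0 56) .nil)) .nil)) .nil)) .nil)) .nil)) .nil)) .nil)) .nil)) .nil)) .nil)))) .nil)) (.kid 21 [[]] sub9 .nil))) .nil))))

/-- the search tree of involutions of the base -/
def ptree : PTr :=
  (.node 0 [] [20, 21] (.kid 0 [[]] (.node 1 [] [10, 8, 9] (.kid 1 [[]] sub13 (.kid 2 [[], [0, 2], [0, 0, 1], [2, 0], [0, 1, 2, 0], [0, 2, 0, 2], [1], [0, 2, 0, 2, 0], [0, 1, 0], [0, 1], [0, 0, 0], [0, 0], [2], [2, 2], [0, 0, 0, 0], [0], [0, 2, 0], [0, 1, 2], [1, 0], [2, 0, 0]] sub8 .nil))) (.kid 1 [[], [1, 0, 1, 0], [1, 1, 0, 0, 0], [0, 1, 1, 1], [1, 0], [1, 1, 0, 0], [0, 1], [0, 1, 0, 0, 1], [0, 1, 0, 0], [0, 1, 1], [1, 0, 0], [0], [0, 1, 0], [1, 1, 1, 1, 0], [1, 1, 0], [1, 1], [1], [1, 1, 1, 1], [1, 0, 1], [0, 1, 0, 1], [1, 1, 1]] (.node 2 [] [31, 27,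 2] (.kid 2 [[]] sub5 (.kid 3 [[], [2, 1, 2], [1, 0], [0, 1], [1], [1, 2, 1], [2, 1, 1], [1, 0, 1], [2, 0], [0, 2], [2], [0, 1, 1], [0, 2, 1], [0], [2, 1], [1, 2]] sub2 (.kid 6 [[], [0], [1]] (.node 20 [(72, 72, 0, 1, 2)] [] (.kid 20 [[]] (.node 21 [(72, 72, 0, 1, 2)] [] (.kid 21 [[]] sub1 .nil)) (.kid 21 [[]] sub0 .nil))) .nil)))) .nil)))

end Cfsg.Agent.H39.Fi22Invol.Data
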