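import Cfsg.Agent.H39.Fi22Invol.Chain

/-!
Generators of the centralisers.
-/

set_option autoImplicit false
set_option maxRecDepth 100000

namespace Cfsg.Agent.H39.Fi22Invol.Data

/-- generators, with their matrices and whether they exchange two classes -/
def genOne : List (List (List ℕ) × List ℕ × Bool) :=
  [([[1, 0, 2, 3, 4, 5, 7, 3, 8, 7]], [9, 2, 4, 8, 16, 32], true),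
  ([[1, 2, 3, 4, 5, 6, 7, 3, 8, 7]], [57, 58, 60, 8, 16, 32], true),
  ([[1, 2, 3, 4, 5, 6, 7, 3, 2, 1, 4, 3, 2, 5, 4, 3, 8, 7, 3, 2, 1, 0, 4, 3, 2, 5, 7, 3, 8, 7]], [41, 2, 44, 8, 16, 32], true),
  ([[1, 0, 2, 1, 3, 4]], [1, 2, 4, 9, 16, 32], true),
  ([[1, 0, 2, 3, 4, 5]], [1, 2, 4, 8, 18, 32], true),
  ([[1, 0, 2, 3, 4, 5, 7, 3, 2, 4, 3, 7]], [1, 2, 4, 8, 16, 36], true),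
  ([[1, 2, 3, 4, 5, 6]], [1, 2, 4, 11, 19, 32], true),
  ([[1, 2, 3, 4, 5, 6, 7, 3, 2, 4, 3, 7]], [1, 2, 4, 13, 16, 37], true),
  ([[1, 0, 2, 1, 3, 2, 7, 3, 8, 7]], [1, 2, 36, 8, 16, 32], true),
  ([[1, 2, 3, 4, 5, 6, 7, 3, 2, 1, 4, 3, 5, 7, 8, 7, 3, 2, 4, 3, 7]], [1, 20, 4, 8, 6, 54], true),
  ([[1, 0, 2, 1, 3, 2]], [1, 2, 4, 8, 16, 32], true),
  ([[1, 2, 3, 4, 5, 6, 7, 3, 2, 1, 4, 3, 5, 7]], [1, 2, 4, 8, 22, 38], true),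
  ([[1, 2, 3, 4, 5, 6, 7, 3, 2, 1, 4, 3, 5, 7, 8, 7, 3, 2, 4, 3, 7, 8]], [1, 52, 50, 8, 38, 22], true),
  ([[1, 0, 2, 1, 3, 4, 7, 3, 8, 7]], [1, 18, 4, 8, 16, 32], true),
  ([[1, 2, 3, 4, 5, 6, 7, 3, 2, 1, 4, 3, 2, 5, 8, 7, 3, 2, 1, 4, 3, 2, 5, 4, 7, 3, 2, 4, 5, 6], [1, 2, 3, 4, 5, 6, 7, 3, 8, 7], [1, 2, 3, 4, 5, 6, 7, 3, 2, 1, 4, 3, 2, 5, 4, 7, 8, 7, 3, 2, 1, 4, 3, 2, 5, 4, 7, 3, 2, 4], [1, 0, 2, 3, 4, 5, 7, 3, 8, 7]], [1, 4, 2, 8, 32, 16], false)]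

/-- generators, with their matrices -/
def genTwo : List (List (List ℕ) × List ℕ) :=
  [([[1, 0, 2, 1, 3]], [1, 2, 37, 8, 49, 32]),
  ([[1, 0, 2, 1, 3, 2, 4]], [1, 2, 37, 8, 49, 32]),
  ([[1, 2, 3, 4, 5, 6, 7, 3, 2, 1, 4, 3, 2, 5, 7]], [1, 43, 45, 8, 57, 32]),
  ([[1, 2, 3, 4, 5, 6, 7, 3, 2, 1, 4, 3, 2, 5, 7, 8, 7, 3, 2, 4, 3, 7, 8]], [21, 2, 4, 8, 16, 52]),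
  ([[1, 0, 2, 1]], [4, 2, 1, 8, 16, 32]),
  ([[1, 0, 2, 3, 4, 5]], [1, 2, 4, 8, 48, 32]),
  ([[1, 0, 2, 1, 3, 2, 7, 3, 8, 7]], [1, 2, 4, 42, 50, 32]),
  ([[1, 0, 2, 1, 3, 2, 4, 3]], [4, 2, 1, 8, 16, 32]),
  ([[1, 2, 3, 4, 5, 6, 7, 3, 2, 1, 4, 3, 2, 5, 7, 3]], [12, 15, 9, 8, 16, 32]),
  ([[1, 2, 3, 4, 5, 6, 7, 3, 2, 1, 4, 3, 2, 5, 7, 3, 8, 7, 3, 2, 4, 3, 7, 8]], [1, 2, 4, 8, 32, 16]),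
  ([[1, 0, 2, 3, 4, 5], [1, 0, 2, 1, 3, 4, 7, 3, 8, 7]], [30, 29, 27, 23, 47, 63]),
  ([[1, 2, 3, 4, 5, 6]], [1, 2, 4, 8, 48, 32]),
  ([[1, 0, 2, 1, 3, 2], [1, 2, 3, 4, 5, 6, 7, 3, 2, 1, 4, 3, 2, 5, 4, 3, 8, 7, 3, 2, 1, 0, 4, 3, 2, 1, 7, 3, 8, 7], [1, 2, 3, 4, 5, 6, 7, 3, 2, 1, 4, 3, 5, 7, 8], [1, 2, 3, 4, 5, 6, 7, 3, 2, 1, 4, 3, 2, 5, 4, 7, 8, 7, 3, 2, 4, 3, 7]], [43, 21, 46, 53, 7, 10]),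
  ([[1, 0, 2, 3, 4, 5, 7, 3, 2, 4, 3, 7]], [1, 42, 4, 8, 56, 32]),
  ([[1, 2, 3, 4, 5, 6, 7, 3, 2, 4, 3, 7, 8], [1, 2, 3, 4, 5, 6], [1, 0, 2, 3, 4, 5, 7, 3, 2, 4, 3, 7, 8], [1, 0, 2, 3, 4, 5]], [1, 2, 4, 8, 16, 32]),
  ([[1, 2, 3, 4, 5, 6, 7, 3, 2, 4, 3, 7]], [1, 42, 4, 8, 56, 32]),
  ([[1, 0, 2, 1, 3], [1, 0, 2, 1, 3, 2, 4]], [1, 2, 4, 8, 16, 32]),
  ([[1, 0, 2, 1], [1, 0, 2, 1, 3, 2, 4, 3]], [1, 2, 4, 8, 16, 32]),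
  ([[1, 0, 2, 1, 3, 4, 7, 3, 8, 7], [1, 2, 3, 4, 5, 6, 7, 3, 2, 1, 4, 3, 2, 5, 7, 3, 8, 7, 3, 2, 1, 0, 4, 3, 2, 1]], [1, 2, 4, 8, 16, 32]),
  ([[1, 0, 2, 3, 4, 5, 7, 3, 2, 4, 3, 7], [1, 2, 3, 4, 5, 6, 7, 3, 2, 4, 3, 7]], [1, 2, 4, 8, 16, 32]),
  ([[1, 0, 2, 3, 4, 5], [1, 2, 3, 4, 5, 6]], [1, 2, 4, 8, 16, 32]),
  ([[1, 0, 2, 1, 3, 2, 7, 3, 8, 7], [1, 2, 3, 4, 5, 6, 7, 3, 2, 1, 4, 3, 2, 5, 4, 3, 8, 7, 3, 2, 1, 0, 4, 3, 2, 1]], [1, 2, 4, 8, 16, 32]),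
  ([[1, 0, 2, 1, 3, 2]], [37, 2, 4, 8, 52, 32]),
  ([[1, 0, 2, 3, 4, 5, 7, 3, 2, 4, 3, 7, 8]], [1, 8, 4, 2, 16, 32]),
  ([[1, 2, 3, 4, 5, 6, 7, 3, 2, 1, 4, 3, 5, 7]], [45, 46, 4, 8, 60, 32]),
  ([[1, 2, 3, 4, 5, 6, 7, 3, 2, 1, 4, 3, 5, 7, 8]], [15, 12, 4, 6, 16, 32]),
  ([[1, 2, 3, 4, 5, 6, 7, 3, 2, 1, 4, 3, 2, 5, 7, 8]], [1, 9, 15, 3, 16, 32]),
  ([[1, 0, 2, 3, 4, 5, 7, 3, 2, 4, 8, 7, 3, 2, 1, 4, 5]], [62, 61, 59, 55, 47, 31]),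
  ([[1, 2, 3, 4, 5, 6, 7, 3, 2, 1, 4, 3, 2, 5, 7, 3, 8]], [46, 45, 43, 39, 63, 32]),
  ([[1, 2, 3, 4, 5, 6, 7, 3, 2, 1, 4, 3, 5, 7, 8, 7, 3, 2, 4, 3, 7]], [1, 2, 55, 59, 35, 19]),
  ([[1, 2, 3, 4, 5, 6, 7, 3, 2, 1, 4, 3, 2, 5, 7, 8, 7, 3, 2, 4, 3, 7]], [55, 2, 4, 62, 38, 22]),
  ([[1, 2, 3, 4, 5, 6, 7, 3, 2, 1, 4, 3, 5, 7, 8, 7, 3, 2, 4, 3, 7, 8]], [1, 2, 21, 8, 16, 49]),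
  ([[1, 2, 3, 4, 5, 6, 7, 3, 2, 1, 4, 3, 2, 5, 7, 3, 8, 7, 3, 2, 4, 3, 7]], [1, 2, 4, 26, 16, 50]),
  ([[1, 2, 3, 4, 5, 6, 7, 3, 2, 1, 4, 3, 2, 5, 4, 3, 8, 7, 3, 2, 1, 0, 4, 5]], [6, 2, 3, 15, 16, 32]),
  ([[1, 2, 3, 4, 5, 6, 7, 3, 2, 1, 4, 3, 2, 5, 4, 3, 8, 7, 3, 2, 1, 0, 4, 3, 5]], [1, 2, 39, 43, 51, 32]),
  ([[1, 2, 3, 4, 5, 6, 7, 3, 2, 1, 4, 3, 2, 5, 4, 3, 8, 7, 3, 2, 1, 0, 4, 3, 2, 5]], [39, 2, 4, 46, 54, 32]),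
  ([[1, 2, 3, 4, 5, 6, 7, 3, 2, 1, 4, 3, 2, 5, 4, 8, 7, 3, 2, 1, 0, 4, 3, 2, 5, 4, 3, 7]], [1, 2, 4, 58, 34, 18]),
  ([[1, 2, 3, 4, 5, 6, 7, 3, 2, 1, 4, 3, 2, 5, 4, 8, 7, 3, 2, 1, 0, 4, 3, 2, 5, 4, 3, 7, 3]], [23, 2, 4, 30, 16, 54]),
  ([[1, 2, 3, 4, 5, 6, 7, 3, 2, 1, 4, 3, 2, 5, 4, 8, 7, 3, 2, 1, 0, 4, 3, 2, 5, 4, 3, 7, 8]], [1, 2, 4, 8, 16, 48]),
  ([[1, 2, 3, 4, 5, 6, 7, 3, 2, 1, 4, 3, 2, 5, 4, 3, 8, 7, 3, 2, 1, 0, 4, 3, 2, 1, 7, 3, 8, 7]], [1, 27, 29, 8, 16, 57]),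
  ([[1, 2, 3, 4, 5, 6, 7, 3, 2, 1, 4, 3, 2, 5, 4, 8, 7, 3, 2, 1, 0, 4, 3, 2, 5, 4, 3, 7, 3, 2]], [1, 2, 23, 27, 16, 51]),
  ([[1, 2, 3, 4, 5, 6, 7, 3, 2, 1, 4, 3, 2, 5, 4, 8, 7, 3, 2, 1, 0, 4, 3, 2, 5, 4, 3, 7, 3, 8]], [53, 2, 4, 8, 36, 20]),
  ([[1, 2, 3, 4, 5, 6, 7, 3, 2, 1, 4, 3, 2, 5, 4, 3, 8, 7, 3, 2, 1, 0, 4, 3, 2, 1, 7, 3, 2, 8, 7]], [29, 30, 4, 8, 16, 60]),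
  ([[1, 2, 3, 4, 5, 6, 7, 3, 2, 1, 4, 3, 2, 5, 4, 8, 7, 3, 2, 1, 0, 4, 3, 2, 5, 4, 3, 7, 3, 2, 8]], [1, 2, 53, 8, 33, 17]),
  ([[1, 2, 3, 4, 5, 6, 7, 3, 2, 1, 4, 3, 2, 5, 8, 7, 3, 2, 1, 0, 4, 3, 2, 5, 6, 7, 3, 4, 5, 8, 7]], [1, 26, 4, 8, 16, 56]),
  ([[1, 2, 3, 4, 5, 6, 7, 3, 2, 1, 4, 3, 2, 5, 8, 7, 3, 2, 1, 4, 3, 2, 5, 7, 3, 4, 8, 7, 3, 2, 1]], [1, 59, 61, 8, 41, 25]),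
  ([[1, 2, 3, 4, 5, 6, 7, 3, 2, 1, 4, 3, 2, 5, 4, 3, 8, 7, 3, 2, 1, 0, 4, 3, 2, 1, 7, 3, 2, 8, 7, 3]], [1, 58, 4, 8, 40, 24]),
  ([[1, 2, 3, 4, 5, 6, 7, 3, 2, 1, 4, 3, 2, 5, 4, 8, 7, 3, 2, 1, 4, 3, 2, 5, 7, 3, 4, 8, 7, 3, 2, 1]], [61, 62, 4, 8, 44, 28])]

/-- generators of the elementary group -/
def genKer : List (List (List ℕ)) :=
  [[[1, 0, 2, 1, 3], [1, 0, 2, 1, 3, 2, 4]],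
  [[1, 0, 2, 1], [1, 0, 2, 1, 3, 2, 4, 3]],
  [[1, 0, 2, 1, 3, 4, 7, 3, 8, 7], [1, 2, 3, 4, 5, 6, 7, 3, 2, 1, 4, 3, 2, 5, 7, 3, 8, 7, 3, 2, 1, 0, 4, 3, 2, 1]],
  [[1, 0, 2, 3, 4, 5, 7, 3, 2, 4, 3, 7], [1, 2, 3, 4, 5, 6, 7, 3, 2, 4, 3, 7]],
  [[1, 0, 2, 3, 4, 5], [1, 2, 3, 4, 5, 6]],
  [[1, 0, 2, 1, 3, 2, 7, 3, 8, 7], [1, 2, 3, 4, 5, 6, 7, 3, 2, 1, 4, 3, 2, 5, 4, 3, 8, 7, 3, 2, 1, 0, 4, 3, 2, 1]]]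

/-- a chain on vectors -/
def vchOne : List (ℕ × List ℕ × List (List ℕ)) :=
  [(1, [0, 1, 2, 3, 4, 5, 6, 7, 8, 9, 10, 11, 12, 13, 14], [[], [0, 1, 7, 12], [0, 1, 5, 12], [0, 1, 6, 12], [0, 1, 4, 12], [2, 3, 11, 2], [1, 2, 9], [0, 3], [0], [0, 6], [0, 3, 6], [0, 7], [0, 3, 7], [0, 3, 6, 7], [0, 6, 7], [1, 2, 4, 6], [1, 2], [1, 2, 6], [1, 2, 4], [0, 1, 7, 8], [0, 1, 5, 8], [2, 3, 9, 2], [0, 2, 12], [2, 3, 14], [2, 14], [0, 6, 13], [2, 5, 14], [0, 6, 9], [1, 5, 8], [2, 3, 12], [2, 12], [0, 2, 5, 7], [0, 2], [0, 1, 6, 13], [0, 1, 4, 13], [0, 2, 7], [0, 2, 5], [0, 1, 4, 7, 13], [0, 2, 11], [2, 3], [2], [2, 6], [1, 4, 13], [0, 7, 8], [2, 5], [2, 3, 11], [2, 11], [0, 1, 4, 6], [0, 1], [0, 1, 6], [0, 1, 4], [0,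 1, 7], [0, 1, 5], [0, 1, 4, 7], [0, 2, 9], [1, 3], [1], [0, 7, 12], [1, 4], [0, 6, 12], [1, 5], [2, 3, 9], [2, 9]]),
  (8, [3, 4, 5, 6, 7, 8, 9, 10, 11, 12, 13, 14], [[], [0], [0, 3], [3], [0, 4], [4], [3, 4], [0, 3, 4], [3, 4, 6], [3, 10, 1], [0, 3, 10], [3, 10], [0, 3, 6], [3, 6], [3, 4, 10], [3, 6, 1], [0, 4, 5, 2], [4, 5, 2], [0, 3, 6, 11], [3, 6, 11], [0, 4, 5], [4, 5], [3, 4, 5], [0, 3, 4, 5], [0, 3, 9, 2], [3, 9, 2], [0, 4, 9], [4, 9], [0, 3, 9], [3, 9], [0, 3, 9, 1], [3, 9, 1]]),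
  (56, [4, 5, 8, 9, 10, 11, 12, 13, 14], [[1, 6], [0, 6], [0, 1, 2, 7], [0, 1, 2, 5], [0, 3, 8], [1, 2], [0, 1, 2], [0, 1, 3], [0, 7], [0, 3], [0, 1, 7], [], [0], [1], [0, 1]]),
  (14, [8, 9, 10, 11, 12, 13, 14], [[], [1], [5], [0, 3], [0], [0, 5]]),
  (2, [10, 11, 12, 14], [[], [3], [2, 3], [2]]),
  (32, [10, 11], [[], [1]])]

/-- a chain on vectors -/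
def vchTwo : List (ℕ × List ℕ × List (List ℕ)) :=
  [(5, [0, 2, 3, 22, 24, 25, 26, 29, 30, 31, 34, 35, 37, 39, 40, 41, 42, 43, 45, 47], [[], [0, 10], [1, 11], [5], [0, 1], [6], [0, 15], [2], [0, 8], [12], [9], [14], [0, 19], [16], [13], [1, 7], [2, 17], [3], [1, 5], [11], [0], [10], [2, 18], [4], [1], [0, 6], [0, 2], [15], [0, 12], [8], [17], [7], [0, 16], [19], [18], [1, 14]]),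
  (33, [4, 8, 9, 28, 32, 33, 36, 38, 44, 46], [[0, 3], [3], [2], [6], [0, 2], [0, 6], [9], [0, 9], [], [0, 5], [0], [5], [0, 1], [1], [7], [4], [0, 7], [0, 4], [8], [0, 8]]),
  (32, [10, 12, 13, 27], [[1], [3], [], [1, 2], [0, 1], [0]]),
  (51, [5, 6, 23], [[1], [0], [0, 2], [0, 1], [], [2]]),
  (31, [], [[]]),
  (34, [13], [[0], []])]


end Cfsg.Agent.H39.Fi22Invol.Data
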