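import Cfsg.Agent.H39.Fi22Invol.Chain

/-!
The elementary group of the base.
-/

set_option autoImplicit false
set_option maxRecDepth 100000

namespace Cfsg.Agent.H39.Fi22Invol.Data

/-- a conjugating word for the second type -/
def moveW : List (List ℕ) :=
  [[1, 0, 2, 1, 3, 2, 4, 3, 5, 4, 6, 5], [1, 2, 3, 4, 5, 7, 3, 2, 1, 4, 3, 2, 7, 3, 4, 5], [1, 2, 3, 4, 5, 6, 7, 3, 2, 1, 4, 5], [1, 2, 3, 4, 5, 6, 7, 3, 2, 1, 4, 3, 2, 5, 4, 3, 8, 7, 3, 2, 4, 3], [1, 2, 3, 4, 5, 7, 3, 2, 1, 4, 3, 2, 7, 3, 4, 8], [1, 2, 3, 4, 5, 6, 7, 3, 2, 1, 4, 3, 2, 8, 7, 3, 2, 4, 3, 5], [], [1, 2, 3, 4, 5, 6, 7, 3, 2, 1, 4, 3, 2, 5, 7, 3, 8, 7, 3, 2, 1, 0, 4, 3, 2, 1, 7], [1, 0, 2, 1, 3, 2, 4, 7, 8], [1, 2, 3, 4, 5, 6, 7, 3, 2, 1,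 4, 3, 2, 5, 7, 8, 7, 3, 2, 1, 0, 4, 3, 2, 5, 4]]

/-- a basis among the 22 -/
def basisIx : List ℕ := [0, 1, 2, 3, 4, 5, 6, 7, 8, 14]

/-- coordinates of the 22 -/
def codes : List ℕ := [1, 2, 4, 8, 16, 32, 64, 128, 256, 440, 459, 365, 63, 222, 512, 761, 653, 618, 1015, 942, 860, 795]

/-- non-zero defects -/
def defects : List (List ℕ) :=
  [[24, 65, 89, 160, 184, 225, 249],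
  [9, 80, 89, 160, 169, 240, 249, 295, 302, 375, 382, 391, 398, 471, 478, 561, 568, 609, 616, 657, 664, 705, 712, 790, 799, 838, 847, 950, 959, 998, 1007]]

/-- fixed elements reduced to representatives -/
def redTab : List (List (ℕ × ℕ × ℕ)) :=
  [[(0, 0, 0), (2, 0, 1), (4, 0, 2), (6, 0, 3), (24, 8, 0), (26, 8, 1), (28, 8, 2), (30, 8, 3), (65, 1, 0), (67, 1, 1), (69, 1, 2), (71, 1, 3), (89, 9, 0), (91, 9, 1), (93, 9, 2), (95, 9, 3), (160, 32, 0), (162, 32, 1), (164, 32, 2), (166, 32, 3), (184, 40, 0), (186, 40, 1), (188, 40, 2), (190, 40, 3), (225, 33, 0), (227, 33, 1), (229, 33, 2), (231, 33, 3), (249, 41, 0), (251, 41, 1), (253, 41, 2), (255, 41, 3), (296, 0, 4), (298, 0, 5), (300, 0, 6), (302, 0, 7),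 (304, 8, 4), (306, 8, 5), (308, 8, 6), (310, 8, 7), (361, 1, 4), (363, 1, 5), (365, 1, 6), (367, 1, 7), (369, 9, 4), (371, 9, 5), (373, 9, 6), (375, 9, 7), (392, 32, 4), (394, 32, 5), (396, 32, 6), (398, 32, 7), (400, 40, 4), (402, 40, 5), (404, 40, 6), (406, 40, 7), (457, 33, 4), (459, 33, 5), (461, 33, 6), (463, 33, 7), (465, 41, 4), (467, 41, 5), (469, 41, 6), (471, 41, 7), (553, 0, 8), (555, 0, 9), (557, 0, 10), (559, 0, 11), (561, 8, 8), (563, 8, 9), (565, 8, 10), (567, 8, 11), (616, 1, 8), (618, 1, 9), (620, 1, 10), (622, 1, 11), (624, 9, 8), (626, 9, 9), (628, 9, 10), (630, 9, 11), (649, 32, 8), (651, 32, 9), (653, 32, 10), (655, 32, 11), (657, 40, 8), (659, 40, 9), (661, 40, 10), (663, 40, 11), (712,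 33, 8), (714, 33, 9), (716, 33, 10), (718, 33, 11), (720, 41, 8), (722, 41, 9), (724, 41, 10), (726, 41, 11), (769, 0, 12), (771, 0, 13), (773, 0, 14), (775, 0, 15), (793, 8, 12), (795, 8, 13), (797, 8, 14), (799, 8, 15), (832, 1, 12), (834, 1, 13), (836, 1, 14), (838, 1, 15), (856, 9, 12), (858, 9, 13), (860, 9, 14), (862, 9, 15), (929, 32, 12), (931, 32, 13), (933, 32, 14), (935, 32, 15), (953, 40, 12), (955, 40, 13), (957, 40, 14), (959, 40, 15), (992, 33, 12), (994, 33, 13), (996, 33, 14), (998, 33, 15), (1016, 41, 12), (1018, 41, 13), (1020, 41, 14), (1022, 41, 15)],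
  [(0, 0, 0), (9, 1, 0), (80, 16, 0), (89, 17, 0), (160, 32, 0), (169, 33, 0), (240, 48, 0), (249, 49, 0), (295, 22, 0), (302, 23, 0), (375, 6, 0), (382, 7, 0), (391, 54, 0), (398, 55, 0), (471, 38, 0), (478, 39, 0), (561, 19, 0), (568, 18, 0), (609, 3, 0), (616, 2, 0), (657, 51, 0), (664, 50, 0), (705, 35, 0), (712, 34, 0), (790, 5, 0), (799, 4, 0), (838, 21, 0), (847, 20, 0), (950, 37, 0), (959, 36, 0), (998, 53, 0), (1007, 52, 0)]]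

/-- representatives with witnesses -/
def repTab : List (List (ℕ × ℕ × List (List ℕ))) :=
  [[(0, 0, []),
    (2, 1, []),
    (4, 1, [[1, 0, 2, 1], [1, 0, 2, 1, 3, 2, 4, 3]]),
    (6, 2, []),
    (296, 2, [[1, 2, 3, 4, 5, 7, 3, 2, 1, 4, 3, 2, 7, 3, 4, 5], [1, 0, 2, 1, 3, 4, 7, 3, 8], [1, 2, 3, 4, 7, 3, 2, 1, 8, 7, 3, 2, 4, 3, 7], [1, 2, 3, 4, 5, 6, 7, 3, 2, 1, 4, 3, 2, 7, 8, 7, 3, 2, 4, 3], [], [1, 2, 3, 4, 5, 6, 7, 3, 2, 1, 4, 3, 2, 5, 4, 3, 8, 7, 3, 2, 4, 3, 5, 7], [1, 0, 2, 1, 3], [1, 2, 3, 4, 5, 6, 7, 3, 2, 1, 4, 3, 2, 5, 7, 8, 7, 3, 2, 4, 3, 5, 4], [1, 2, 3, 4, 5, 6, 7, 3, 2, 1, 4, 3, 2, 5, 4, 8, 7, 3, 2, 1, 0, 4, 3, 2, 5]]),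
    (298, 1, [[1, 2, 3, 4, 5, 7, 3, 2, 1, 4, 3, 2, 7, 3, 4, 5], [1, 0, 2, 1], [1, 2, 3, 4, 7, 3, 2, 1, 8, 7], [1, 0, 2, 1, 3, 4, 5, 7, 3], [1, 2, 3, 4, 5, 7, 3, 2, 1, 4, 8], [1, 2, 3, 4, 5, 6, 7, 3, 2, 1, 4, 3, 2, 5, 4, 3, 8, 7, 3, 2, 4, 3, 5], [1, 2, 3, 4, 7, 3, 2, 1, 8], [1, 2, 3, 4, 5, 6, 7, 3, 2, 1, 4, 3, 2, 5, 4, 3, 8, 7, 3, 2, 4, 3, 5, 6, 7, 8], [1, 2, 3, 4, 5, 6, 7, 3, 2, 1, 4, 3, 5, 4, 8, 7, 3, 2, 4, 3, 5, 4, 6, 5, 7], [1, 0, 2, 3, 4, 5, 6, 7, 3, 2, 4, 3, 5, 4, 7, 8, 7, 3, 2]]),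
    (300, 1, [[1, 2, 3, 4, 5, 6, 7, 3, 2, 1, 4, 3, 5, 4, 7, 3], [1, 0, 2, 1, 3, 4, 7, 3, 8], [1, 2, 3, 4, 5, 6, 7, 3, 2, 1, 4, 5, 8], [1, 2, 3, 4, 5, 7, 3, 2, 1, 4, 3, 2, 7, 3, 4], [1, 2, 3, 4, 5, 7, 3, 2, 1, 4, 3, 8, 7, 3, 2, 4, 3, 7], [1, 0, 2, 1, 3, 4, 5, 6, 7, 3, 4, 8], [1, 2, 3, 4, 5, 6, 7, 3, 2, 1, 4, 3, 5, 4, 7, 8, 7, 3, 2, 4, 3, 5, 4, 7, 8], [1, 2, 3, 4, 5, 6, 7, 3, 2, 1, 4, 3, 5, 7, 8, 7, 3, 2, 1, 0, 4, 3, 7]]),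
    (302, 2, [[1, 0, 2, 1, 3, 2, 4, 3, 5, 4, 6, 5], [1, 0, 2, 1], [1, 2, 3, 4, 5, 6, 7, 3, 2, 1, 4, 5], [1, 0, 2, 1, 3, 4, 7, 3, 8], [1, 2, 3, 4, 5, 6, 7, 3, 2, 1, 4, 3, 5, 4, 7, 3, 8], [1, 0, 2, 1, 3, 4, 5, 7, 3], [1, 2, 3, 4, 5, 6, 7, 3, 2, 1, 4, 3, 2, 7, 8, 7, 3, 2, 4, 3], [1, 0, 2, 1, 3, 2, 7, 3], [1, 2, 3, 4, 5, 6, 7, 3, 2, 1, 4, 3, 2, 5, 4, 3, 8], [1, 2, 3, 4, 5, 6, 7, 3, 2, 1, 4, 3, 7, 8, 7], [1, 2, 3, 4, 5, 6, 7, 3, 2, 1, 4, 3, 2, 5, 4, 7, 8, 7, 3, 2, 1, 4, 3, 2, 5]]),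
    (553, 2, [[1, 0, 2, 1, 3, 2, 4, 3, 5, 4, 6, 5], [1, 2, 3, 4, 5, 6, 7, 3, 2, 1, 4, 5, 8], [1, 2, 3, 4, 5, 7, 3, 2, 1, 4, 3, 2, 7, 3, 4, 8], [1, 2, 3, 4, 5, 6, 7, 3, 2, 1, 4, 3, 2, 5, 4, 3, 8, 7, 3, 2, 4, 3, 5, 6], [1, 0, 2, 1, 3, 2, 4, 3], [1, 2, 3, 4, 5, 6, 7, 3, 2, 1, 4, 3, 7, 8, 7, 3, 2, 4, 3, 5, 4, 6], [1, 2, 3, 4, 5, 6, 7, 3, 2, 1, 4, 3, 2, 7, 8, 7, 3, 4], [1, 0, 2, 3, 4, 5, 6, 7, 3, 2, 4, 5, 8, 7, 3, 4, 5]]),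
    (555, 1, [[1, 2, 3, 4, 5, 7, 3, 2, 1, 4, 3, 2, 7, 3, 4, 5], [1, 0, 2, 1], [1, 0, 2, 1, 3, 4, 7, 3], [1, 2, 3, 4, 5, 6, 7, 3, 2, 1, 4, 3, 2, 5, 4, 3, 8, 7, 3, 2, 4, 3], [1, 0, 2, 1, 3, 4, 5, 7, 3], [1, 2, 3, 4, 5, 6, 7, 3, 2, 1, 4], [], [1, 2, 3, 4, 5, 6, 7, 3, 2, 1, 4, 3, 2, 8, 7, 3, 2, 4, 3, 5, 7], [1, 0, 2, 1, 3], [1, 2, 3, 4, 5, 6, 7, 3, 2, 1, 4, 3, 2, 5, 7, 8, 7, 3, 2, 4, 3, 7, 8], [1, 2, 3, 4, 5, 6, 7, 3, 2, 1, 4, 3, 2, 5, 4, 7, 8, 7, 3, 2, 1, 4, 3, 2, 5, 4, 3, 7, 3, 4, 8]]),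
    (557, 1, [[1, 0, 2, 1, 3, 2, 4, 3, 5, 4, 6, 5], [1, 2, 3, 4, 5, 7, 3, 2, 1, 4, 3, 2, 7, 3, 4, 5], [1, 0, 2, 1, 3, 4, 7, 3], [1, 2, 3, 4, 7, 3, 2, 1, 8, 7], [1, 0, 2, 1, 3, 4, 5, 7, 3], [1, 2, 3, 4, 5, 6, 7, 3, 2, 1, 4], [1, 0, 2, 1, 3, 2, 4, 3], [1, 2, 3, 4, 5, 6, 7, 3, 2, 1, 4, 3, 2, 5, 4, 3, 8, 7, 3, 2, 4, 3, 5, 4, 6, 7], [1, 0, 2, 1, 3], [1, 0, 2, 1, 3, 4, 7], [1, 2, 3, 4, 5, 6, 7, 3, 2, 1, 4, 3, 2, 5, 8, 7, 3, 2, 1, 4, 3, 2, 5, 4, 3, 7, 3, 4, 5, 6, 8]]),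
    (559, 2, [[1, 2, 3, 4, 5, 7, 3, 2, 1, 4, 3, 2, 7, 3, 4, 5], [1, 0, 2, 1, 3, 4, 7, 3], [1, 2, 3, 4, 7, 3, 2, 1, 8, 7], [1, 0, 2, 1, 3, 4, 5, 6, 7, 3], [1, 2, 3, 4, 5, 6, 7, 3, 2, 1, 4, 3, 2, 7, 8, 7, 3, 2, 4, 3, 5], [], [1, 2, 3, 4, 5, 6, 7, 3, 2, 1, 4, 5, 8, 7, 3, 2, 4, 3, 5, 6, 7], [1, 0, 2, 1, 3], [1, 2, 3, 4, 5, 6, 7, 3, 2, 1, 4, 3, 2, 5, 4, 8, 7, 3, 2, 4, 3, 5, 6, 7, 8], [1, 2], [1, 2, 3, 4, 5, 6, 7, 3, 2, 1, 4, 3, 2, 5, 7, 3, 8, 7, 3, 2, 1]]),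
    (769, 2, [[1, 2, 3, 4, 5, 7, 3, 2, 1, 4, 3, 2, 7, 3, 4, 5], [1, 0, 2, 1], [1, 0, 2, 1, 3, 4, 7, 3, 8], [1, 2, 3, 4, 5, 6, 7, 3, 2, 1, 4, 3, 5, 4, 7, 3, 8], [], [1, 2, 3, 4, 5, 6, 7, 3, 2, 1, 4, 3, 2, 5, 7, 3], [1, 2, 3, 4, 5, 6, 7, 3, 2, 1, 4, 3, 5, 7, 8, 7, 3, 2], [1, 2, 3, 4, 5, 6, 7, 3, 2, 1, 4, 3, 2, 5, 8, 7, 3, 2, 1, 4, 3, 2, 5, 7, 3, 4, 8, 7, 3, 2, 1]]),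
    (771, 1, [[1, 0, 2, 1, 3, 2, 4, 3, 5, 4, 6, 5], [1, 2, 3, 4, 5, 7, 3, 2, 1, 4, 3, 2, 7, 3, 4, 5], [1, 0, 2, 1, 3, 4, 7, 3], [1, 2, 3, 4, 7, 3, 2, 1, 8, 7], [1, 0, 2, 1, 3, 2, 4, 3, 5, 4], [1, 0, 2, 1, 3, 4, 5, 6, 7, 3, 8], [1, 0, 2, 1, 3, 2, 4, 3, 5, 6], [1, 2, 3, 4, 5, 6, 7, 3, 2, 1, 4, 5, 8, 7, 3, 2, 4, 3, 5, 4, 6, 7, 8], [1, 0, 2, 1, 3], [1, 2, 3, 4, 5, 7, 3, 2, 1, 4, 3, 2, 7, 8, 7, 3, 2, 4], [1, 2, 3, 4, 5, 7, 3, 2, 1, 4, 8, 7, 3, 2, 1]]),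
    (773, 1, [[1, 0, 2, 1, 3, 2, 4, 3, 5, 4, 6, 5], [1, 0, 2, 1], [1, 2, 3, 4, 5, 6, 7, 3, 2, 1, 4, 5], [1, 2, 3, 4, 5, 6, 7, 3, 2, 1, 4, 5, 8], [1, 0, 2, 1, 3, 2, 4, 3, 5, 4], [1, 2, 3, 4, 7, 3, 2, 1], [1, 2, 3, 4, 5, 6, 7, 3, 2, 1, 4, 3, 2, 5, 4, 3, 8, 7, 3, 2, 4, 3, 5, 6, 7], [1, 2, 3, 4, 5, 6, 7, 3, 2, 1, 4, 8, 7, 3, 2, 4, 3, 5, 4, 7, 3, 2], [1, 2, 3, 4, 5, 6, 7, 3, 2, 1, 4, 3, 2, 5, 4, 3, 8, 7, 3, 2, 4, 3, 5, 4, 7, 3, 2, 1, 8]]),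
    (775, 2, [[1, 0, 2, 1, 3, 2, 4, 3, 5, 4, 6, 5], [1, 0, 2, 1], [1, 2, 3, 4, 5, 6, 7, 3, 2, 1, 4, 5], [1, 0, 2, 1, 3, 4, 7, 3, 8], [1, 2, 3, 4, 5, 6, 7, 3, 2, 1, 4, 3, 5, 4, 7, 3, 8], [1, 0, 2, 1, 3, 4, 5, 7, 3], [1, 2, 3, 4, 5, 7, 3, 2, 1, 8, 7], [1, 2, 3, 4, 5, 6, 7, 3, 2, 1, 4, 3, 8, 7, 3, 2, 4, 3, 5, 7], [], [1, 2, 3, 4, 5, 6, 7, 3, 2, 1, 4, 3, 5, 4, 7, 3, 8, 7], [1, 2, 3, 4, 5, 6, 7, 3, 2, 1, 4, 3, 2, 5, 8, 7, 3, 2, 4, 3, 7], [1, 2, 3, 4, 5, 6, 7, 3, 2, 1, 4, 3, 2, 5, 4, 8, 7, 3, 2, 1, 0, 4, 3, 2, 5, 4, 3, 7, 3, 2, 8]])],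
  [(0, 2, [[1, 0, 2, 1, 3, 2, 4, 3, 5, 4, 6, 5], [1, 0, 2, 1], [1, 0, 2, 1, 3, 4, 7, 3], [1, 0, 2, 1, 3, 4, 7, 3, 8], [1, 2, 3, 4, 5, 6, 7, 3, 2, 1, 4, 3, 5, 4, 7, 3, 8], [1, 2, 3, 4, 5, 7, 3, 2, 1, 4, 3, 2, 7, 3, 4], [1, 2, 3, 4, 5, 6, 7, 3, 2, 1, 4, 3, 2, 7, 8, 7, 3, 2, 4, 3, 5], [], [1, 0, 2, 1, 3, 2, 7, 3], [1, 2, 3, 4, 5, 6, 7, 3, 2, 1, 8, 7, 3, 2, 4, 3, 5, 6], [1, 2, 3, 4, 5, 6, 7, 3, 2, 1, 4, 8, 7, 3, 2, 1, 4, 3, 7]])]]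

end Cfsg.Agent.H39.Fi22Invol.Data
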